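import Cfsg.Agent.Lib.DerangeIndex.Lin.Basic
import Cfsg.Agent.Lib.HalfTransitive.NormalAbelian

/-!
The case of a non-cyclic normal abelian subgroup of prime power order, with the exact bound.
-/

set_option autoImplicit false

open MulAction Subgroup

namespace CfsgLib.DerangeExact

open CfsgLib.DerangeIndex

/-- `c (u - 1) / 2 + 1 ≤ u ^ (c / 2)`. -/
theorem sq_le_pow_of_half {m c u : ℕ} (hc : 2 ≤ c) (hu : 2 ≤ u) (hm : 2 * m ≤ c * (u - 1)) :
    (m + 1) ^ 2 ≤ u ^ c := by
  obtain ⟨a, rfl⟩ := Nat.exists_eq_add_of_le hu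
  have key : ∀ k : ℕ, ((k + 2) * (a + 1) + 2) ^ 2 ≤ 4 * (2 + a) ^ (k + 2) := by
    intro k
    induction k with
    | zero => exact le_of_eq (by ring)
    | succ k ih =>
      have h1 : ((k + 1 + 2) * (a + 1) + 2) ^ 2 ≤ (2 + a) * ((k + 2) * (a + 1) + 2) ^ 2 := by
        have h2 : a + 1 ≤ (k + 2) * (a + 1) := Nat.le_mul_of_pos_left _ (by omega)
        rw [show (k + 1 + 2) * (a + 1) = (k + 2) * (a + 1) + (a + 1) by ring, show 2 + a = a + 1 + 1 by ring]
        generalize (k + 2) * (a + 1) = B at h2 ⊢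
        generalize a + 1 = d at h2 ⊢
        have h3 : 2 * (B + 2) + d ≤ (B + 2) * (B + 2) := by nlinarith
        nlinarith [Nat.mul_le_mul_left d h3]
      calc _ ≤ _ := h1
        _ ≤ (2 + a) * (4 * (2 + a) ^ (k + 2)) := Nat.mul_le_mul_left _ ih
        _ = _ := by ring
  obtain ⟨k, rfl⟩ := Nat.exists_eq_add_of_le hc
  have h3 := key k
  rw [show 2 + a - 1 = a + 1 by omega] at hm
  have h4 : (2 * (m + 1)) ^ 2 ≤ 4 * (2 + a) ^ (2 + k) := by
    refine le_trans (Nat.pow_le_pow_left ?_ 2) (by rwa [Nat.add_comm k 2] at h3)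
    omega
  rw [mul_pow] at h4
  omega

variable {M : Type*} [Group M] [Finite M] {V : Type*} [AddCommGroup V] [DistribMulAction M V]
  [Finite V] [Nontrivial V] {p : ℕ} {K0 : Subgroup M}

theorem sq_of_abelian (h : Setup V p K0) (hirr : Irred M V) {s : ℕ} [Fact s.Prime]
    {A : Subgroup M} [A.Normal] (hAK : A ≤ K0) (hA : IsPGroup s A)
    (hcomm : ∀ a ∈ A, ∀ b ∈ A, Commute a b) (hncyc : ¬ IsCyclic A) :
    (K0.index + 1) ^ 2 ≤ Nat.card V := by
  classical
  -- some non-trivial element of `A` fixes a non-zero vector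
  obtain ⟨a0, ha0, ha01, v0, hv0, hav0⟩ : ∃ a ∈ A, a ≠ 1 ∧ ∃ v : V, v ≠ 0 ∧ a • v = v := by
    by_contra hcon
    push Not at hcon
    refine hncyc (CfsgLib.HalfTransitive.isCyclic_of_comm_unique hA
      (fun a b => Subtype.ext (hcomm a a.2 b b.2).eq) fun H K hH hK => ?_)
    by_contra hne
    have hs := (Fact.out : s.Prime)
    obtain ⟨x, hx, hxK⟩ := SetLike.not_le_iff_exists.1 (fun hle : H ≤ K =>
      hne (eq_of_le_of_card_ge hle (by rw [hH, hK])))
    obtain ⟨z, hz⟩ := (isCyclic_of_prime_card (α := K) hK).exists_generator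
    have hz1 : z ≠ 1 := by
      intro h1
      have hb : ∀ k : K, k = 1 := fun k => by
        obtain ⟨i, hi⟩ := mem_zpowers_iff.1 (hz k)
        rw [← hi, h1, one_zpow]
      have : Nat.card K = 1 := Nat.card_eq_one_iff_unique.2
        ⟨⟨fun a b => (hb a).trans (hb b).symm⟩, ⟨1⟩⟩
      exact hs.ne_one (hK.symm.trans this)
    have hxs : x ^ s = 1 := by
      have h1 := pow_card_eq_one' (x := (⟨x, hx⟩ : H))
      rw [hH] at h1
      exact congrArg Subtype.val h1
    have hzs : ((z : A) : A) ^ s = 1 := by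
      have h1 := pow_card_eq_one' (x := z)
      rw [hK] at h1
      exact congrArg Subtype.val h1
    have hzM : ((z : A) : M) ≠ 1 := fun e => hz1 (Subtype.ext (Subtype.ext e))
    obtain ⟨i, -, v, hv, hfix⟩ := h.exists_fixed_translate (x := ((x : A) : M)) (z := ((z : A) : M))
      hs (fun hd => h.not_dvd_card hAK (hd.trans (hH ▸ H.card_subgroup_dvd_card)))
      (hcomm _ x.2 _ (z : A).2) (congrArg Subtype.val hxs) (congrArg Subtype.val hzs)
      (fun v hv => by_contra fun hv0 => hcon _ (z : A).2 hzM v hv0 hv)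
    refine hcon _ (A.mul_mem x.2 (A.pow_mem (z : A).2 i)) (fun h1 => hxK ?_) v hv hfix
    have hx' : x = ((z : A) ^ i)⁻¹ := eq_inv_of_mul_eq_one_left (Subtype.ext h1)
    rw [hx']
    exact K.inv_mem (K.pow_mem z.2 i)
  -- a maximal vector stabilizer
  obtain ⟨B, ⟨⟨u, hu, hBu⟩, hv0B⟩, hmax⟩ := (Set.toFinite
      {B : Subgroup M | (∃ v : V, v ≠ 0 ∧ B = A ⊓ stabilizer M v) ∧
        A ⊓ stabilizer M v0 ≤ B}).exists_maximal
    ⟨A ⊓ stabilizer M v0, ⟨v0, hv0, rfl⟩, le_rfl⟩
  have hBA : B ≤ A := hBu.le.trans inf_le_left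
  have hmax' : ∀ w : V, w ≠ 0 → w ∈ fixSub V B → A ⊓ stabilizer M w = B := by
    intro w hw hwB
    have hle : B ≤ A ⊓ stabilizer M w := le_inf hBA fun b hb => hwB b hb
    exact le_antisymm (hmax ⟨⟨w, hw, rfl⟩, hv0B.trans hle⟩ hle) hle
  set U := fixSub V B
  have huU : u ∈ U := fun b hb => (hBu.le hb).2
  have hBbot : B ≠ ⊥ := by
    intro hb
    have h2 := hv0B ⟨ha0, hav0⟩
    rw [hb, mem_bot] at h2
    exact ha01 h2
  have hAbot : A ≠ ⊥ := fun hb => ha01 (by rwa [hb, mem_bot] at ha0)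
  have hBA' : B ≠ A := by
    intro he
    have h2 : u ∈ fixSub V A := he ▸ huU
    rw [h.fixSub_eq_bot_of_normal hirr hAbot, AddSubgroup.mem_bot] at h2
    exact hu h2
  have h2B : 2 * Nat.card B ≤ Nat.card A := by
    rw [← relIndex_bot_left B, ← relIndex_bot_left A, ← relIndex_mul_relIndex ⊥ B A bot_le hBA,
      mul_comm]
    refine Nat.mul_le_mul_left _ (Nat.one_lt_iff_ne_zero_and_ne_one.2
      ⟨Subgroup.index_ne_zero_of_finite, fun h1 => hBA' (le_antisymm hBA (relIndex_eq_one.1 h1))⟩)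
  -- the conjugates
  set Cj : Finset (Subgroup M) := (Set.toFinite (Set.range fun g : M =>
    B.map (MulAut.conj g).toMonoidHom)).toFinset
  have hfix : ∀ g : M, ∀ w : V, w ∈ fixSub V (B.map (MulAut.conj g).toMonoidHom) ↔ g⁻¹ • w ∈ U := by
    intro g w
    simp only [U, mem_fixSub, Subgroup.mem_map, forall_exists_index, and_imp,
      forall_apply_eq_imp_iff₂, MulEquiv.coe_toMonoidHom, MulAut.conj_apply]
    refine forall₂_congr fun b _ => ?_
    rw [mul_smul, mul_smul, smul_eq_iff_eq_inv_smul]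
  have hstab : ∀ g : M, ∀ w : V, w ≠ 0 → w ∈ fixSub V (B.map (MulAut.conj g).toMonoidHom) →
      A ⊓ stabilizer M w = B.map (MulAut.conj g).toMonoidHom := by
    intro g w hw hwB
    rw [← hmax' (g⁻¹ • w) (by rwa [ne_eq, smul_eq_zero_iff_eq]) ((hfix g w).1 hwB)]
    ext x
    simp only [Subgroup.mem_map, Subgroup.mem_inf, mem_stabilizer_iff, MulEquiv.coe_toMonoidHom,
      MulAut.conj_apply]
    constructor
    · rintro ⟨hx, hxw⟩
      refine ⟨g⁻¹ * x * g, ⟨by simpa using ‹A.Normal›.conj_mem _ hx g⁻¹, ?_⟩,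
        by simp [mul_assoc]⟩
      rw [mul_smul, mul_smul, smul_inv_smul, hxw]
    · rintro ⟨y, ⟨hy, hyw⟩, rfl⟩
      refine ⟨‹A.Normal›.conj_mem _ hy g, ?_⟩
      rw [mul_smul, mul_smul, hyw, smul_inv_smul]
  have hCA : ∀ C ∈ Cj, C ≤ A := by
    intro C hC
    obtain ⟨g, rfl⟩ := (Set.Finite.mem_toFinset _).1 hC
    rintro _ ⟨b, hb, rfl⟩
    exact ‹A.Normal›.conj_mem b (hBA hb) g
  have hprod := h.prod_card_fixSub_le (V := V) (fun C : Cj => (C : Subgroup M))
    (fun C => (hCA C C.2).trans hAK) (fun C C' b hb c hc => hcomm b (hCA C C.2 hb) c (hCA C' C'.2 hc))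
    fun C C' hne => AddSubgroup.disjoint_def.2 fun {w} hw hw' => by_contra fun hw0 => hne (by
      obtain ⟨g, hg⟩ := (Set.Finite.mem_toFinset _).1 C.2
      obtain ⟨g', hg'⟩ := (Set.Finite.mem_toFinset _).1 C'.2
      have h1 := hstab g w hw0 (by rw [show B.map (MulAut.conj g).toMonoidHom = C.1 from hg]; exact hw)
      have h2 := hstab g' w hw0 (by rw [show B.map (MulAut.conj g').toMonoidHom = C'.1 from hg']; exact hw')
      exact Subtype.ext (hg.symm.trans (h1.symm.trans (h2.trans hg'))))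
  have hcards : ∀ C : Cj, Nat.card (fixSub V (C : Subgroup M)) = Nat.card U := by
    intro C
    obtain ⟨g, hg⟩ := (Set.Finite.mem_toFinset _).1 C.2
    rw [← hg]
    exact Nat.card_congr
      { toFun := fun w => ⟨g⁻¹ • (w : V), (hfix g w).1 w.2⟩
        invFun := fun w => ⟨g • (w : V), (hfix g _).2 (by rw [inv_smul_smul]; exact w.2)⟩
        left_inv := fun w => Subtype.ext (smul_inv_smul g (w : V))
        right_inv := fun w => Subtype.ext (inv_smul_smul g (w : V)) }
  rw [Finset.prod_congr rfl (fun C _ => hcards C), Finset.prod_const, Finset.card_univ,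
    Fintype.card_coe] at hprod
  -- the index
  set N := Subgroup.normalizer (B : Set M)
  have hidx : (N ⊔ K0).index ≤ Cj.card := by
    rw [← Set.ncard_coe_finset]
    refine h.index_sup_le _ (Finset.finite_toSet _) (fun g => B.map (MulAut.conj g).toMonoidHom)
      (fun g => (Set.Finite.mem_toFinset _).2 ⟨g, rfl⟩) fun g g' he => ⟨1, K0.one_mem, ?_⟩
    rw [mul_one, Subgroup.mem_normalizer_iff]
    intro b
    have h3 : ∀ y, g' * y * g'⁻¹ ∈ B.map (MulAut.conj g').toMonoidHom ↔ y ∈ B := fun y => by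
      exact Subgroup.mem_map_iff_mem (MulAut.conj g').injective
    have h4 : ∀ y, g * y * g⁻¹ ∈ B.map (MulAut.conj g).toMonoidHom ↔ y ∈ B := fun y => by
      exact Subgroup.mem_map_iff_mem (MulAut.conj g).injective
    rw [← h4 b, ← h3 (g'⁻¹ * g * b * (g'⁻¹ * g)⁻¹), he]
    simp [mul_assoc]
  have hrel : K0.relIndex N * Nat.card A ≤ (Nat.card U - 1) * Nat.card B := by
    have h1 := h.relIndex_mul_card_le (Y := N) (X := A) (U := U) ?_ hAK
      (fun y hy v hv => smul_mem_fixSub hy hv) huU hu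
    · rwa [← hBu] at h1
    · intro a ha
      rw [Subgroup.mem_normalizer_iff]
      intro b
      refine ⟨fun hb => ?_, fun hb => ?_⟩
      · rwa [(hcomm a ha b (hBA hb)).eq, mul_inv_cancel_right]
      · have hb' : a * b * a⁻¹ ∈ A := hBA hb
        have hbA : b ∈ A := by
          simpa [mul_assoc] using A.mul_mem (A.mul_mem (A.inv_mem ha) hb') ha
        rwa [(hcomm a ha b hbA).eq, mul_inv_cancel_right] at hb
  have hrel2 : 2 * K0.relIndex N ≤ Nat.card U - 1 := by
    refine Nat.le_of_mul_le_mul_right (?_ : _ * Nat.card B ≤ _) Nat.card_pos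
    calc 2 * K0.relIndex N * Nat.card B = K0.relIndex N * (2 * Nat.card B) := by ring
      _ ≤ K0.relIndex N * Nat.card A := Nat.mul_le_mul_left _ h2B
      _ ≤ _ := hrel
  have hm : 2 * K0.index ≤ Cj.card * (Nat.card U - 1) := by
    rw [h.index_split N, mul_left_comm]
    exact Nat.mul_le_mul hidx hrel2
  have hc2 : 2 ≤ Cj.card := by
    by_contra hlt
    refine hu ((AddSubgroup.mem_bot).1 ?_)
    have hBn : B.Normal := ⟨fun b hb g => by
      have h5 : B.map (MulAut.conj g).toMonoidHom = B.map (MulAut.conj 1).toMonoidHom :=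
        (Finset.card_le_one (s := Cj)).1 (by omega) _ ((Set.Finite.mem_toFinset _).2 ⟨g, rfl⟩)
          _ ((Set.Finite.mem_toFinset _).2 ⟨1, rfl⟩)
      have h6 : g * b * g⁻¹ ∈ B.map (MulAut.conj g).toMonoidHom := ⟨b, hb, rfl⟩
      rw [h5] at h6
      simpa using h6⟩
    rw [← h.fixSub_eq_bot_of_normal hirr hBbot]
    exact huU
  have hU2 : 2 ≤ Nat.card U := by
    have : Nontrivial U := ⟨⟨u, huU⟩, 0, fun e => hu (congrArg Subtype.val e)⟩
    exact Finite.one_lt_card
  exact (sq_le_pow_of_half hc2 hU2 hm).trans hprod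

end CfsgLib.DerangeExact
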