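import Cfsg.Agent.Lib.DerangeExact.Combi
import Mathlib.Data.Nat.Prime.Basic
import Mathlib.Data.Nat.Log
import Mathlib.Tactic.Ring
import Mathlib.Tactic.NormNum
import Mathlib.Tactic.Linarith
import Mathlib.Tactic.IntervalCases

/-!
The finitely many numerical cases left by the counting argument.
-/

set_option autoImplicit false

namespace CfsgLib.DerangeExact

theorem nine_pow_four_lt : ∀ L : ℕ, 15 ≤ L → 9 * L ^ 4 < 3 ^ L := by
  intro L hL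
  induction L, hL using Nat.le_induction with
  | base => norm_num
  | succ L hL ih =>
    calc 9 * (L + 1) ^ 4 ≤ 3 * (9 * L ^ 4) := by nlinarith [Nat.pow_le_pow_left hL 3, Nat.pow_le_pow_left hL 2]
      _ < 3 * 3 ^ L := by omega
      _ = _ := by ring

theorem nine_pow_four_lt' : ∀ L : ℕ, 2 ≤ L → ∀ q : ℕ, 13 ≤ q → 9 * L ^ 4 < q ^ L := by
  intro L hL q hq
  refine lt_of_lt_of_le ?_ (Nat.pow_le_pow_left hq L)
  induction L, hL using Nat.le_induction with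
  | base => norm_num
  | succ L hL ih =>
    calc 9 * (L + 1) ^ 4 ≤ 13 * (9 * L ^ 4) := by nlinarith [Nat.pow_le_pow_left hL 3, Nat.pow_le_pow_left hL 2]
      _ < 13 * 13 ^ L := by omega
      _ = _ := by ring

/-- The bound on the exponent and on the prime. -/
theorem range_bound {p L l t : ℕ} (hp : p.Prime) (hp2 : p ≠ 2) (hl : 2 * l ≤ L) (ht : t ≤ 4 * L ^ 2)
    (ht0 : 0 < t) (hu : t < p ^ L) (h : 2 * (p ^ L - 1) ≤ t * (p ^ l - 1)) :
    L < 15 ∧ p < 13 ∧ l < 8 ∧ 2 ≤ L := by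
  have h3 : 3 ≤ p := by have := hp.two_le; omega
  have hl1 : 1 ≤ p ^ l := Nat.one_le_pow _ _ hp.pos
  have hL1 : 1 ≤ p ^ L := Nat.one_le_pow _ _ hp.pos
  have hL : 2 ≤ L := by
    by_contra hlt
    have : l = 0 := by omega
    subst this
    rw [pow_zero, Nat.sub_self, mul_zero] at h
    omega
  have h4 : p ^ L ≤ 3 * L ^ 2 * p ^ l := by
    have h5 : t * (p ^ l - 1) ≤ 4 * L ^ 2 * p ^ l := Nat.mul_le_mul ht (Nat.sub_le _ _)
    have h6 : 1 ≤ L ^ 2 * p ^ l := Nat.one_le_iff_ne_zero.2 (by positivity)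
    nlinarith [Nat.sub_add_cancel hL1]
  have h7 : p ^ L ≤ 9 * L ^ 4 := by
    have h8 : p ^ l * p ^ l ≤ p ^ L := by rw [← pow_add]; exact Nat.pow_le_pow_right hp.pos (by omega)
    have h9 : p ^ L * p ^ L ≤ (3 * L ^ 2 * p ^ l) * (3 * L ^ 2 * p ^ l) := Nat.mul_le_mul h4 h4
    refine Nat.le_of_mul_le_mul_right (?_ : p ^ L * p ^ L ≤ 9 * L ^ 4 * p ^ L) (by omega)
    calc _ ≤ _ := h9
      _ = 9 * L ^ 4 * (p ^ l * p ^ l) := by ring
      _ ≤ _ := Nat.mul_le_mul_left _ h8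
  have hL15 : L < 15 := by
    by_contra hge
    have := nine_pow_four_lt L (by omega)
    have := Nat.pow_le_pow_left h3 L
    omega
  refine ⟨hL15, ?_, by omega, hL⟩
  by_contra hge
  have := nine_pow_four_lt' L hL p (by omega)
  omega

set_option synthInstance.maxSize 100000 in
set_option synthInstance.maxHeartbeats 400000 in
/-- The table with `|U| = 2`. -/
theorem table_two {p L l T : ℕ} (hp : p.Prime) (hp2 : p ≠ 2) (hl : 2 * l ≤ L) (hT : ∃ w, T = 2 ^ w)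
    (hT1 : 2 ≤ T) (hTL : T ≤ 2 * L) (hu : 2 * T ^ 2 ≤ p ^ L)
    (h : 4 * (p ^ L - 1) ≤ (T ^ 2 + 2 * T - 8) * (p ^ l - 1)) : False := by
  have ht : T ^ 2 ≤ 4 * L ^ 2 := by
    calc T ^ 2 ≤ (2 * L) ^ 2 := Nat.pow_le_pow_left hTL 2
      _ = _ := by ring
  obtain ⟨hL15, hp13, hl8, hL2⟩ := range_bound hp hp2 hl ht (by positivity) (by nlinarith) (by
    have h1 : T ^ 2 + 2 * T - 8 ≤ 2 * T ^ 2 := by
      have : 2 * T ≤ T ^ 2 := by rw [sq]; exact Nat.mul_le_mul_right _ hT1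
      omega
    have := h.trans (Nat.mul_le_mul_right _ h1)
    nlinarith)
  obtain ⟨w, rfl⟩ := hT
  have hw : w < 5 := by
    by_contra hge
    have := Nat.pow_le_pow_right (show 0 < 2 by norm_num) (show 5 ≤ w by omega)
    omega
  have hchk : ∀ L < 15, ∀ q < 13, (q = 3 ∨ q = 5 ∨ q = 7 ∨ q = 11) → ∀ w < 5, ∀ l < 8, 2 * l ≤ L → 2 ^ w ≤ 2 * L → 2 ≤ 2 ^ w →
      2 * (2 ^ w) ^ 2 ≤ q ^ L → 4 * (q ^ L - 1) ≤ ((2 ^ w) ^ 2 + 2 * 2 ^ w - 8) * (q ^ l - 1) → False := by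
    decide +kernel
  refine hchk L hL15 p hp13 ?_ w hw l hl8 hl hTL hT1 hu h
  clear hchk
  have := hp.two_le
  interval_cases p <;> first | omega | (exact absurd hp (by decide +kernel))

set_option synthInstance.maxSize 100000 in
set_option synthInstance.maxHeartbeats 400000 in
/-- The table with `|U| ≥ 4`: two cases are left. -/
theorem table_four {p L l e : ℕ} (hp : p.Prime) (hp2 : p ≠ 2) (hl : 2 * l ≤ L)
    (hTL : 2 ^ e ≤ 4 * L ^ 2) (hu : 4 * 2 ^ e ≤ p ^ L) (hu4 : 4 ∣ p ^ L - 1) (hl4 : 4 ∣ p ^ l - 1)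
    (h : 2 * (p ^ L - 1) ≤ (2 ^ e - 4) * (p ^ l - 1)) :
    (p = 5 ∧ L = 4 ∧ l = 2 ∧ 2 ^ e = 64) ∨ (p = 3 ∧ L = 8 ∧ l = 4 ∧ 2 ^ e = 256) := by
  obtain ⟨hL15, hp13, hl8, hL2⟩ := range_bound hp hp2 hl hTL (by positivity)
    (by have := Nat.two_pow_pos e; omega) (h.trans (Nat.mul_le_mul_right _ (Nat.sub_le _ _)))
  have he : e < 10 := by
    by_contra hge
    have := Nat.pow_le_pow_right (show 0 < 2 by norm_num) (show 10 ≤ e by omega)
    have : L ^ 2 ≤ 14 ^ 2 := Nat.pow_le_pow_left (by omega) 2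
    omega
  have hchk : ∀ L < 15, ∀ q < 13, (q = 3 ∨ q = 5 ∨ q = 7 ∨ q = 11) → ∀ e < 10, ∀ l < 8, (2 * l ≤ L ∧ 2 ^ e ≤ 4 * L ^ 2 ∧
      4 * 2 ^ e ≤ q ^ L ∧ (q ^ L - 1) % 4 = 0 ∧ (q ^ l - 1) % 4 = 0 ∧
      2 * (q ^ L - 1) ≤ (2 ^ e - 4) * (q ^ l - 1)) →
      (q = 5 ∧ L = 4 ∧ l = 2 ∧ 2 ^ e = 64) ∨ (q = 3 ∧ L = 8 ∧ l = 4 ∧ 2 ^ e = 256) := by
    decide +kernel
  refine hchk L hL15 p hp13 ?_ e he l hl8 ⟨hl, hTL, hu, Nat.mod_eq_zero_of_dvd hu4, Nat.mod_eq_zero_of_dvd hl4, h⟩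
  clear hchk
  have := hp.two_le
  interval_cases p <;> first | omega | (exact absurd hp (by decide +kernel))

end CfsgLib.DerangeExact
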