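import Cfsg.Agent.Lib.DerangeIndex.Lin.SympCases

/-!
Counting tools for a normal subgroup of symplectic type: the commutator pairing, translates of a
fixed space inside the fixed space of one element, and orbit inequalities.
-/

set_option autoImplicit false
set_option linter.unusedSectionVars false

open MulAction Subgroup
open scoped commutatorElement

namespace CfsgLib.DerangeExact

open CfsgLib.DerangeIndex

variable {M : Type*} [Group M] [Finite M]

section Pairing

variable {s : ℕ} {K0 S H U : Subgroup M} {z : M} (c : SympCtx s K0 S H U z)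
include c

omit [Finite M] in
theorem card_zpowers_z : Nat.card (zpowers z) = s := by rw [Nat.card_zpowers, c.z_order]

/-- For `A ≤ H` meeting `U` trivially, `|A| |C_H(A)| = |H|`. -/
theorem card_mul_card_centralizer {A : Subgroup M} (hAH : A ≤ H) (hAU : A ⊓ U = ⊥) :
    Nat.card A * Nat.card (H ⊓ centralizer (A : Set M) : Subgroup M) = Nat.card H := by
  classical
  have := Fintype.ofFinite M
  have hZ : ∀ a ∈ zpowers z, ∀ h ∈ H, Commute h a := fun a ha h hh => c.commute_z (c.HS hh) ha
  let ψ : A → (H →* zpowers z) := fun a =>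
    { toFun := fun h => ⟨⁅(h : M), (a : M)⁆, c.comm h h.2 a (hAH a.2)⟩
      map_one' := Subtype.ext (by simp [commutatorElement_one_left])
      map_mul' := fun h k => Subtype.ext (by
        show ⁅(h : M) * k, (a : M)⁆ = ⁅(h : M), (a : M)⁆ * ⁅(k : M), (a : M)⁆
        have h1 : ⁅(h : M) * k, (a : M)⁆ = (h : M) * ⁅(k : M), (a : M)⁆ * (h : M)⁻¹ * ⁅(h : M), (a : M)⁆ := by
          simp only [commutatorElement_def]; group
        rw [h1, (hZ _ (c.comm k k.2 a (hAH a.2)) h h.2).eq, mul_inv_cancel_right]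
        exact (hZ _ (c.comm h h.2 a (hAH a.2)) _ (c.UH (c.z_le (c.comm k k.2 a (hAH a.2))))).eq) }
  let φ : H → (A →* zpowers z) := fun h =>
    { toFun := fun a => ⟨⁅(h : M), (a : M)⁆, c.comm h h.2 a (hAH a.2)⟩
      map_one' := Subtype.ext (by simp [commutatorElement_one_right])
      map_mul' := fun a b => Subtype.ext (by
        show ⁅(h : M), (a : M) * b⁆ = ⁅(h : M), (a : M)⁆ * ⁅(h : M), (b : M)⁆
        have h1 : ⁅(h : M), (a : M) * b⁆ = ⁅(h : M), (a : M)⁆ * ((a : M) * ⁅(h : M), (b : M)⁆ * (a : M)⁻¹) := by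
          simp only [commutatorElement_def]; group
        rw [h1, (hZ _ (c.comm h h.2 b (hAH b.2)) a (hAH a.2)).eq, mul_inv_cancel_right]) }
  have hs : Nat.Prime (Nat.card (zpowers z)) := by rw [card_zpowers_z c]; exact c.prime
  have := Fact.mk hs
  -- the kernels
  have hker : ∀ {B : Type _} [Group B] [Finite B] (f : B →* zpowers z),
      s * Nat.card f.ker = Nat.card B + if f = 1 then (s - 1) * Nat.card B else 0 := by
    intro B _ _ f
    have h1 : Nat.card f.range * Nat.card f.ker = Nat.card B := by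
      rw [← Subgroup.index_ker, mul_comm, card_mul_index]
    split_ifs with hf
    · subst hf
      rw [show Nat.card (1 : B →* zpowers z).ker = Nat.card B by rw [MonoidHom.ker_one, card_top]]
      obtain ⟨j, hj⟩ := Nat.exists_eq_succ_of_ne_zero c.prime.ne_zero
      subst hj
      rw [Nat.succ_sub_one, Nat.succ_eq_add_one]
      ring
    · rcases Subgroup.eq_bot_or_eq_top_of_prime_card f.range with h2 | h2
      · exact absurd (MonoidHom.range_eq_bot_iff.1 h2) hf
      · rw [h2, card_top, card_zpowers_z c] at h1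
        rw [h1, add_zero]
  have hψ1 : ∀ a : A, ψ a = 1 ↔ a = 1 := by
    intro a
    refine ⟨fun he => ?_, fun he => ?_⟩
    · have hU : (a : M) ∈ U := c.cent a (c.HS (hAH a.2)) fun h hh =>
        commutatorElement_eq_one_iff_mul_comm.1 (congrArg Subtype.val (DFunLike.congr_fun he ⟨h, hh⟩))
      exact Subtype.ext ((mem_bot (G := M)).1 (hAU ▸ ⟨a.2, hU⟩))
    · subst he
      exact MonoidHom.ext fun h => Subtype.ext (by simp [ψ, commutatorElement_one_right])
  have hφ1 : ∀ h : H, φ h = 1 ↔ (h : M) ∈ centralizer (A : Set M) := by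
    intro h
    rw [Subgroup.mem_centralizer_iff]
    refine ⟨fun he a ha => ?_, fun he => MonoidHom.ext fun a => Subtype.ext ?_⟩
    · exact (commutatorElement_eq_one_iff_mul_comm.1
        (congrArg Subtype.val (DFunLike.congr_fun he ⟨a, ha⟩))).symm
    · exact commutatorElement_eq_one_iff_mul_comm.2 (he a a.2).symm
  have hsum : ∑ h : H, Nat.card (φ h).ker = ∑ a : A, Nat.card (ψ a).ker := by
    simp only [Nat.card_eq_fintype_card, Fintype.card_subtype, MonoidHom.mem_ker,
      Finset.card_filter]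
    exact Finset.sum_comm
  have hL : s * ∑ h : H, Nat.card (φ h).ker = Nat.card H * Nat.card A +
      (s - 1) * (Nat.card A * Nat.card (H ⊓ centralizer (A : Set M) : Subgroup M)) := by
    rw [Finset.mul_sum, Finset.sum_congr rfl fun h _ => hker (φ h), Finset.sum_add_distrib,
      Finset.sum_const, Finset.card_univ, smul_eq_mul, ← Nat.card_eq_fintype_card, ← Finset.sum_filter,
      Finset.sum_const, smul_eq_mul]
    congr 1
    rw [show (Finset.univ.filter fun h : H => φ h = 1).card =
        Nat.card (H ⊓ centralizer (A : Set M) : Subgroup M) by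
      rw [← Fintype.card_subtype, ← Nat.card_eq_fintype_card]
      exact Nat.card_congr
        { toFun := fun h => ⟨(h.1 : M), h.1.2, (hφ1 h.1).1 h.2⟩
          invFun := fun h => ⟨⟨h.1, h.2.1⟩, (hφ1 _).2 h.2.2⟩
          left_inv := fun h => rfl
          right_inv := fun h => rfl }]
    ring
  have hR : s * ∑ a : A, Nat.card (ψ a).ker = Nat.card H * Nat.card A + (s - 1) * Nat.card H := by
    rw [Finset.mul_sum, Finset.sum_congr rfl fun a _ => hker (ψ a), Finset.sum_add_distrib,
      Finset.sum_const, Finset.card_univ, smul_eq_mul, ← Nat.card_eq_fintype_card]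
    simp only [hψ1, Finset.sum_ite_eq', Finset.mem_univ, if_true]
    ring
  rw [hsum, hR] at hL
  have h2 : 0 < s - 1 := by have := c.prime.two_le; omega
  exact (Nat.eq_of_mul_eq_mul_left h2 (Nat.add_left_cancel hL)).symm

theorem card_mul_card_centralizer_singleton {x : M} (hx : x ∈ H) (hxU : x ∉ U) (hxs : x ^ s = 1) :
    s * Nat.card (H ⊓ centralizer {x} : Subgroup M) = Nat.card H := by
  have := Fact.mk c.prime
  have hx1 : x ≠ 1 := fun e => hxU (e ▸ U.one_mem)
  have hU : zpowers x ⊓ U = ⊥ := by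
    rw [Subgroup.eq_bot_iff_forall]
    intro a ha
    by_contra ha1
    refine hxU ?_
    have h1 : zpowers a = zpowers x := by
      refine eq_of_le_of_card_ge (zpowers_le.2 ha.1) ?_
      obtain ⟨i, rfl⟩ := mem_zpowers_iff.1 ha.1
      rw [Nat.card_zpowers, Nat.card_zpowers, orderOf_eq_prime hxs hx1, orderOf_eq_prime (p := s) ?_ ha1]
      rw [← zpow_natCast, ← zpow_mul, mul_comm, zpow_mul, zpow_natCast, hxs, one_zpow]
    exact (zpowers_le.2 ha.2 : zpowers a ≤ U) (h1 ▸ mem_zpowers x)
  have h := card_mul_card_centralizer c (zpowers_le.2 hx) hU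
  rw [Nat.card_zpowers, orderOf_eq_prime hxs hx1] at h
  have he : centralizer ((zpowers x : Subgroup M) : Set M) = centralizer {x} := by
    ext g
    rw [Subgroup.mem_centralizer_singleton_iff, Subgroup.mem_centralizer_iff]
    refine ⟨fun hg => (hg x (mem_zpowers x)).symm, fun hg a ha => ?_⟩
    obtain ⟨i, rfl⟩ := mem_zpowers_iff.1 ha
    exact ((show Commute g x from hg).zpow_right i).eq.symm
  rwa [he] at h

variable {V : Type*} [AddCommGroup V] [DistribMulAction M V] [Finite V] {p : ℕ}
  (h : Setup V p K0) (hirr : Irred M V)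
include h hirr

/-- Independent fixed spaces inside one subgroup. -/
theorem prod_card_fixSub_le_of_le {ι : Type*} [Fintype ι] (B : ι → Subgroup M) (hB : ∀ i, B i ≤ K0)
    (hcomm : ∀ i j, ∀ b ∈ B i, ∀ c ∈ B j, Commute b c)
    (hpair : ∀ i j, i ≠ j → Disjoint (fixSub V (B i)) (fixSub V (B j))) (W : AddSubgroup V)
    (hW : ∀ i, fixSub V (B i) ≤ W) :
    ∏ i, Nat.card (fixSub V (B i)) ≤ Nat.card W := by
  classical
  rw [← Nat.card_pi]
  let T : (∀ i, fixSub V (B i)) →+ W :=
    AddMonoidHom.mk' (fun f => ⟨∑ i, (f i : V), W.sum_mem fun i _ => hW i (f i).2⟩) fun f f' =>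
      Subtype.ext (by simp [Finset.sum_add_distrib])
  refine Nat.card_le_card_of_injective T ((injective_iff_map_eq_zero T).2 fun f hf => funext fun i => ?_)
  apply Subtype.ext
  have : Finite (B i) := inferInstance
  have := Fintype.ofFinite (B i)
  refine h.eq_zero_of_nsmul (h.not_dvd_card (hB i)) ?_
  have h1 : ∀ j, j ≠ i → (∑ b : B i, (b : M) • (f j : V)) = 0 := by
    intro j hj
    refine (AddSubgroup.disjoint_def.1 (hpair i j (Ne.symm hj))) ?_ ?_
    · intro g hg
      rw [Finset.smul_sum]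
      exact Fintype.sum_equiv (Equiv.mulLeft (⟨g, hg⟩ : B i)) _ _ fun b => by
        simp [mul_smul]
    · intro g hg
      rw [Finset.smul_sum]
      refine Finset.sum_congr rfl fun b _ => ?_
      rw [← mul_smul, ← (hcomm i j b b.2 g hg).eq, mul_smul, (f j).2 g hg]
  have h2 : ∑ b : B i, (b : M) • (∑ j, (f j : V)) = ∑ b : B i, (b : M) • (f i : V) := by
    simp only [Finset.smul_sum]
    rw [Finset.sum_comm, Finset.sum_eq_single i (fun j _ hj => h1 j hj) (by simp)]
  rw [show ∑ j, (f j : V) = 0 from congrArg Subtype.val hf] at h2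
  simp only [smul_zero, Finset.sum_const_zero] at h2
  rw [Nat.card_eq_fintype_card]
  rw [Finset.sum_congr rfl (fun (b : B i) _ => (f i).2 b b.2), Finset.sum_const,
    Finset.card_univ] at h2
  exact h2.symm

/-- The translates of the fixed space of `A` inside the fixed space of `x ∈ A`. -/
theorem translates_le {A : Subgroup M} (hAH : A ≤ H) (hAU : A ⊓ U = ⊥)
    (hAc : ∀ a ∈ A, ∀ b ∈ A, Commute a b) {x : M} (hxA : x ∈ A) (hxU : x ∉ U) (hxs : x ^ s = 1) :
    Nat.card (fixSub V A) ^ (Nat.card A / s) ≤ Nat.card (fixSub V (zpowers x)) := by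
  classical
  set X := H ⊓ centralizer {x}
  set C := H ⊓ centralizer (A : Set M)
  have hCX : C ≤ X := inf_le_inf_left _ (Subgroup.centralizer_le (Set.singleton_subset_iff.2 hxA))
  set ι := X ⧸ C.subgroupOf X
  have := Fintype.ofFinite ι
  have hι : Fintype.card ι = Nat.card A / s := by
    have h1 : Nat.card ι * Nat.card C = Nat.card X := by
      rw [← Nat.card_congr (subgroupOfEquivOfLe hCX).toEquiv, mul_comm]
      exact card_mul_index _
    have h2 := card_mul_card_centralizer c hAH hAU
    have h3 := card_mul_card_centralizer_singleton c (hAH hxA) hxU hxs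
    rw [← h3, ← h1, ← mul_assoc] at h2
    rw [← Nat.card_eq_fintype_card, Nat.eq_of_mul_eq_mul_right Nat.card_pos h2,
      Nat.mul_div_cancel_left _ c.prime.pos]
  let B : ι → Subgroup M := fun q => A.map (MulAut.conj ((q.out : X) : M)).toMonoidHom
  have hmem : ∀ q : ι, ∀ b ∈ B q, ∃ a ∈ A, ∃ ζ ∈ zpowers z, b = ζ * a := by
    rintro q _ ⟨a, ha, rfl⟩
    refine ⟨a, ha, _, c.comm _ (q.out).2.1 a (hAH ha), ?_⟩
    simp [commutatorElement_def]
  have hfix : ∀ (q : ι) (w : V), w ∈ fixSub V (B q) ↔ ((q.out : X) : M)⁻¹ • w ∈ fixSub V A := by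
    intro q w
    simp only [B, mem_fixSub, Subgroup.mem_map, forall_exists_index, and_imp,
      forall_apply_eq_imp_iff₂, MulEquiv.coe_toMonoidHom, MulAut.conj_apply]
    refine forall₂_congr fun b _ => ?_
    rw [mul_smul, mul_smul, smul_eq_iff_eq_inv_smul]
  have hcards : ∀ q, Nat.card (fixSub V (B q)) = Nat.card (fixSub V A) := fun q => Nat.card_congr
    { toFun := fun w => ⟨((q.out : X) : M)⁻¹ • (w : V), (hfix q w).1 w.2⟩
      invFun := fun w => ⟨((q.out : X) : M) • (w : V), (hfix q _).2 (by rw [inv_smul_smul]; exact w.2)⟩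
      left_inv := fun w => Subtype.ext (smul_inv_smul _ (w : V))
      right_inv := fun w => Subtype.ext (inv_smul_smul _ (w : V)) }
  have hprod := prod_card_fixSub_le_of_le c h hirr B ?_ ?_ ?_ (fixSub V (zpowers x)) ?_
  · rwa [Finset.prod_congr rfl (fun q _ => hcards q), Finset.prod_const, Finset.card_univ, hι]
      at hprod
  · rintro q b hb
    obtain ⟨a, ha, ζ, hζ, rfl⟩ := hmem q b hb
    exact K0.mul_mem (c.S_le (c.HS (c.UH (c.z_le hζ)))) (c.S_le (c.HS (hAH ha)))
  · rintro i j b hb b' hb'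
    obtain ⟨a, ha, ζ, hζ, rfl⟩ := hmem i b hb
    obtain ⟨a', ha', ζ', hζ', rfl⟩ := hmem j b' hb'
    have e1 : Commute ζ ζ' := c.commute_z (c.HS (c.UH (c.z_le hζ))) hζ'
    have e2 : ∀ w ∈ A, ∀ ξ ∈ zpowers z, Commute w ξ := fun w hw ξ hξ => c.commute_z (c.HS (hAH hw)) hξ
    exact (e1.mul_right (e2 a' ha' ζ hζ).symm).mul_left ((e2 a ha ζ' hζ').mul_right (hAc a ha a' ha'))
  · intro q q' hne
    refine AddSubgroup.disjoint_def.2 fun {w} hw hw' => by_contra fun hw0 => hne ?_
    rw [hfix] at hw hw'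
    set g := ((q.out : X) : M)
    set g' := ((q'.out : X) : M)
    rw [← q.out_eq', ← q'.out_eq', QuotientGroup.eq, mem_subgroupOf]
    refine ⟨(((q.out)⁻¹ * q'.out : X)).2.1, ?_⟩
    show g⁻¹ * g' ∈ centralizer (A : Set M)
    rw [Subgroup.mem_centralizer_iff]
    intro a ha
    have hk : g⁻¹ * g' ∈ H := H.mul_mem (H.inv_mem (q.out).2.1) (q'.out).2.1
    set k := g⁻¹ * g'
    set v := g⁻¹ • w
    have hv0 : v ≠ 0 := fun e => hw0 ((smul_eq_zero_iff_eq _).1 e)
    have hkv : (k * a * k⁻¹) • v = v := by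
      have h1 : a • g'⁻¹ • w = g'⁻¹ • w := hw' a ha
      rw [show k * a * k⁻¹ = g⁻¹ * g' * a * g'⁻¹ * g by simp only [k]; group]
      simp only [v, mul_smul, smul_inv_smul, h1]
    have h2 : ⁅k, a⁆ • v = v := by
      rw [show ⁅k, a⁆ = k * a * k⁻¹ * a⁻¹ from rfl, mul_smul,
        inv_smul_eq_iff.2 (hw a ha).symm, hkv]
    by_contra hne1
    refine hv0 (c.z_free h hirr (c.comm k hk a (hAH ha)) (fun e => hne1 ?_) h2)
    exact (commutatorElement_eq_one_iff_mul_comm.1 e).symm
  · intro q w hw
    rw [fixSub_zpowers]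
    refine hw x ⟨x, hxA, ?_⟩
    show ((q.out : X) : M) * x * ((q.out : X) : M)⁻¹ = x
    rw [mul_inv_eq_iff_eq_mul]
    exact Subgroup.mem_centralizer_singleton_iff.1 (q.out).2.2

/-- `U` acts freely on the non-zero vectors fixed by a subgroup of `H`. -/
theorem card_U_dvd {A : Subgroup M} (hAH : A ≤ H) :
    Nat.card U ∣ Nat.card (fixSub V A) - 1 := by
  classical
  have := Fintype.ofFinite V
  have hmem : ∀ (g : U) (v : V), v ∈ fixSub V A → (g : M) • v ∈ fixSub V A := fun g v hv a ha => by
    rw [smul_smul, (c.central _ g.2 a (hAH ha)).eq, mul_smul, hv a ha]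
  let β := {v : fixSub V A // v ≠ 0}
  let _ : MulAction U β :=
    { smul := fun g v => ⟨⟨(g : M) • ((v.1 : fixSub V A) : V), hmem g _ v.1.2⟩, fun e =>
        v.2 (Subtype.ext ((smul_eq_zero_iff_eq (g : M)).1 (congrArg Subtype.val e)))⟩
      one_smul := fun v => Subtype.ext (Subtype.ext (one_smul M ((v.1 : fixSub V A) : V)))
      mul_smul := fun g g' v => Subtype.ext (Subtype.ext (mul_smul (g : M) g' ((v.1 : fixSub V A) : V))) }
  have hfree : ∀ b : β, stabilizer U b = ⊥ := fun b => (Subgroup.eq_bot_iff_forall _).2 fun g hg =>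
    by_contra fun hg1 => b.2 (Subtype.ext (c.U_free h hirr g.2 (fun e => hg1 (Subtype.ext e))
      (congrArg (fun w : β => ((w.1 : fixSub V A) : V)) hg)))
  have h1 := Nat.card_congr (MulAction.selfEquivOrbitsQuotientProd hfree)
  rw [Nat.card_prod] at h1
  have h2 : Nat.card β = Nat.card (fixSub V A) - 1 := by
    simp only [β, Nat.card_eq_fintype_card]
    exact (Fintype.card_subtype_compl fun v : fixSub V A => v = 0).trans (by rw [Fintype.card_subtype_eq])
  exact ⟨_, by rw [← h2, h1, mul_comm]⟩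

end Pairing

section Orbit

variable {V : Type*} [AddCommGroup V] [DistribMulAction M V] [Finite V] {p : ℕ} {K0 : Subgroup M}

/-- An orbit is at least `|Y : Y ⊓ K0|` times the orbit of a subgroup of `Y ⊓ K0`. -/
theorem relIndex_mul_card_le_orbit (h : Setup V p K0) {Y X : Subgroup M} (hXY : X ≤ Y) (hX0 : X ≤ K0)
    {u : V} (hu : u ≠ 0) :
    K0.relIndex Y * Nat.card X ≤
      (orbit Y u).ncard * Nat.card (X ⊓ stabilizer M u : Subgroup M) := by
  set T := Y ⊓ stabilizer M u with hT
  have hTK : T ≤ K0 := fun y hy => by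
    by_contra hy0
    exact hu (h.free y hy0 u hy.2)
  have h1 : T.relIndex (Y ⊓ K0) * K0.relIndex Y = T.relIndex Y := by
    rw [← inf_relIndex_left (H := Y) (K := K0), relIndex_mul_relIndex _ _ _
      (le_inf inf_le_left hTK) inf_le_left]
  have h2 : T.relIndex X ≤ T.relIndex (Y ⊓ K0) :=
    relIndex_le_of_le_right (le_inf hXY hX0) Subgroup.index_ne_zero_of_finite
  have hst : stabilizer Y u = T.subgroupOf Y := by
    ext y
    exact ⟨fun hy => ⟨y.2, hy⟩, fun hy => hy.2⟩
  have h4 : T.relIndex X * Nat.card (X ⊓ stabilizer M u : Subgroup M) = Nat.card X := by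
    have he := relIndex_mul_relIndex ⊥ (X ⊓ stabilizer M u) X bot_le inf_le_left
    rw [relIndex_bot_left, relIndex_bot_left, inf_relIndex_left] at he
    rw [show T.relIndex X = (stabilizer M u).relIndex X by
      rw [← inf_relIndex_right T X, ← inf_relIndex_right (stabilizer M u) X, hT]
      congr 1
      exact le_antisymm (fun y hy => ⟨hy.1.2, hy.2⟩) (fun y hy => ⟨⟨hXY hy.2, hy.1⟩, hy.2⟩),
      mul_comm, he]
  rw [← h4, ← mul_assoc]
  refine Nat.mul_le_mul_right _ ?_
  rw [← index_stabilizer, hst, ← relIndex, ← h1, mul_comm (K0.relIndex Y)]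
  exact Nat.mul_le_mul_right _ h2

omit [Finite V] in
/-- Stabilizers in a normalised subgroup have constant size on an orbit. -/
theorem card_stab_eq {Y X : Subgroup M} (hn : Y ≤ Subgroup.normalizer (X : Set M)) {u w : V}
    (hw : w ∈ orbit Y u) :
    Nat.card (X ⊓ stabilizer M w : Subgroup M) = Nat.card (X ⊓ stabilizer M u : Subgroup M) := by
  obtain ⟨g, rfl⟩ := hw
  refine (Nat.card_congr ?_).symm
  exact
    { toFun := fun a => ⟨(g : M) * a * (g : M)⁻¹, (Subgroup.mem_normalizer_iff.1 (hn g.2) _).1 a.2.1, by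
        show ((g : M) * a * (g : M)⁻¹) • ((g : M) • u) = (g : M) • u
        rw [mul_smul, inv_smul_smul, mul_smul, (a.2.2 : (a : M) • u = u)]⟩
      invFun := fun a => ⟨(g : M)⁻¹ * a * g,
        (Subgroup.mem_normalizer_iff.1 (hn g.2) _).2 (by simpa [mul_assoc] using a.2.1), by
        show ((g : M)⁻¹ * a * g) • u = u
        rw [mul_smul, mul_smul, inv_smul_eq_iff]
        exact a.2.2⟩
      left_inv := fun a => Subtype.ext (by simp [mul_assoc])
      right_inv := fun a => Subtype.ext (by simp [mul_assoc]) }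

end Orbit

end CfsgLib.DerangeExact
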