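import Cfsg.Agent.Lib.DerangeExact.Combi
import Mathlib.Tactic.LinearCombination

/-!
The number of square roots of the identity in a group whose squares and commutators lie in a
central subgroup of order two.
-/

set_option autoImplicit false

open scoped commutatorElement

namespace CfsgLib.DerangeExact

open Classical in
/-- `(2 J - N)² = |Z| N`, where `J` counts the solutions of `h² = 1`. -/
theorem square_count {X : Type*} [Group X] [Fintype X] (z : X) (hz1 : z ≠ 1)
    (hsq : ∀ h : X, h * h = 1 ∨ h * h = z) (hcm : ∀ h d : X, ⁅h, d⁆ = 1 ∨ ⁅h, d⁆ = z)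
    (hzc : ∀ h : X, Commute h z) (hZ : ∀ d : X, (∀ h : X, Commute h d) → d * d = 1) :
    (2 * ((Finset.univ.filter fun h : X => h * h = 1).card : ℤ) - Fintype.card X) ^ 2 =
      (Finset.univ.filter fun d : X => ∀ h : X, Commute h d).card * Fintype.card X := by
  set I := Finset.univ.filter fun h : X => h * h = 1 with hI
  set Z := Finset.univ.filter fun d : X => ∀ h : X, Commute h d with hZdef
  set N := Fintype.card X
  have hkey : ∀ h d : X, (h * d) * (h * d) = h * h * (⁅h⁻¹, d⁆ * (d * d)) := by
    intro h d
    simp only [commutatorElement_def]; group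
  have hzero : ∀ h d : X, (h * d) * (h * d) = h * h ↔ ⁅h⁻¹, d⁆ * (d * d) = 1 := fun h d => by
    rw [hkey, mul_eq_left]
  -- the number of `h` for each `d`
  have hd : ∀ d : X, 2 * (Finset.univ.filter fun h : X => (h * d) * (h * d) = h * h).card =
      if d ∈ Z then 2 * N else N := by
    intro d
    split_ifs with hdZ
    · simp only [hZdef, Finset.mem_filter, Finset.mem_univ, true_and] at hdZ
      rw [Finset.filter_true_of_mem fun h _ => (hzero h d).2 ?_, Finset.card_univ]
      rw [hZ d hdZ, mul_one, commutatorElement_eq_one_iff_mul_comm]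
      exact (hdZ h⁻¹).eq
    simp only [hZdef, Finset.mem_filter, Finset.mem_univ, true_and, not_forall] at hdZ
    obtain ⟨g, hg⟩ := hdZ
    have hgz : ⁅g, d⁆ = z := (hcm g d).resolve_left fun e => hg (commutatorElement_eq_one_iff_mul_comm.1 e)
    have hflip : ∀ h : X, ⁅(h * g⁻¹)⁻¹, d⁆ = z * ⁅h⁻¹, d⁆ := by
      intro h
      have h1 : ⁅(h * g⁻¹)⁻¹, d⁆ = g * ⁅h⁻¹, d⁆ * g⁻¹ * ⁅g, d⁆ := by
        simp only [commutatorElement_def]; group
      rw [h1, hgz]
      rcases hcm h⁻¹ d with e | e <;> rw [e]
      · simp
      · rw [(hzc g).eq, mul_inv_cancel_right]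
    set P := Finset.univ.filter fun h : X => (h * d) * (h * d) = h * h with hP
    have hbij : P.card = (Finset.univ.filter fun h : X => ¬ (h * d) * (h * d) = h * h).card := by
      refine Finset.card_bij' (fun h _ => h * g⁻¹) (fun h _ => h * g) ?_ ?_
        (fun h _ => inv_mul_cancel_right h g) (fun h _ => mul_inv_cancel_right h g)
      · intro h hh
        simp only [hP, Finset.mem_filter, Finset.mem_univ, true_and, hzero] at hh ⊢
        rw [hflip, mul_assoc, hh, mul_one]
        exact hz1
      · intro h hh
        simp only [hP, Finset.mem_filter, Finset.mem_univ, true_and, hzero] at hh ⊢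
        have h2 := hflip (h * g)
        rw [mul_inv_cancel_right] at h2
        rw [h2] at hh
        rcases hcm (h * g)⁻¹ d with e | e <;> rcases hsq d with e' | e' <;>
          rw [e, e'] at hh ⊢ <;> simp_all
    have := Finset.card_filter_add_card_filter_not (s := (Finset.univ : Finset X))
      (fun h : X => (h * d) * (h * d) = h * h)
    rw [← hbij, Finset.card_univ] at this
    change P.card + P.card = Fintype.card X at this
    show 2 * P.card = Fintype.card X
    omega
  -- counting the pairs in two ways
  have hsum : ∑ d : X, (Finset.univ.filter fun h : X => (h * d) * (h * d) = h * h).card =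
      ∑ h : X, (Finset.univ.filter fun k : X => k * k = h * h).card := by
    simp only [Finset.card_filter]
    rw [Finset.sum_comm]
    exact Finset.sum_congr rfl fun h _ => Fintype.sum_equiv (Equiv.mulLeft h) _ _ fun d => rfl
  have hR : ∑ h : X, (Finset.univ.filter fun k : X => k * k = h * h).card =
      I.card * I.card + (N - I.card) * (N - I.card) := by
    have hnot : (Finset.univ.filter fun h : X => ¬ h * h = 1).card = N - I.card := by
      have := Finset.card_filter_add_card_filter_not (s := (Finset.univ : Finset X)) (fun h : X => h * h = 1)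
      rw [Finset.card_univ] at this
      simp only [N, hI]
      omega
    have he : ∀ h : X, (Finset.univ.filter fun k : X => k * k = h * h).card =
        if h * h = 1 then I.card else N - I.card := by
      intro h
      split_ifs with hh
      · rw [hh]
      · rw [← hnot]
        refine congrArg Finset.card (Finset.filter_congr fun k _ => ?_)
        rw [(hsq h).resolve_left hh]
        exact ⟨fun e e' => hz1 (e.symm.trans e'), (hsq k).resolve_left⟩
    rw [Finset.sum_congr rfl fun h _ => he h, Finset.sum_ite, Finset.sum_const, Finset.sum_const,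
      smul_eq_mul, smul_eq_mul, hnot]
  have h2 : 2 * (I.card * I.card + (N - I.card) * (N - I.card)) = Z.card * N + N * N := by
    rw [← hR, ← hsum, Finset.mul_sum, Finset.sum_congr rfl fun d _ => hd d, Finset.sum_ite,
      Finset.sum_const, Finset.sum_const, smul_eq_mul, smul_eq_mul]
    have hc := Finset.card_filter_add_card_filter_not (s := (Finset.univ : Finset X)) (· ∈ Z)
    rw [Finset.card_univ, Finset.filter_mem_eq_inter, Finset.univ_inter] at hc
    rw [Finset.filter_mem_eq_inter, Finset.univ_inter]
    calc _ = Z.card * N + (Z.card + (Finset.univ.filter fun d : X => d ∉ Z).card) * N := by ring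
      _ = _ := by rw [hc]
  have hIN : I.card ≤ N := (Finset.card_filter_le _ _).trans (le_of_eq Finset.card_univ)
  zify [hIN] at h2
  linear_combination h2

end CfsgLib.DerangeExact
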