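import Cfsg.Agent.Lib.DerangeExact.Combi

/-!
The exact bound for a normal subgroup of symplectic type when the prime is odd.
-/

set_option autoImplicit false
set_option linter.unusedSectionVars false

open MulAction Subgroup
open scoped commutatorElement

namespace CfsgLib.DerangeExact

open CfsgLib.DerangeIndex

variable {M : Type*} [Group M] [Finite M]

/-- `9 q² ≤ 4 ^ (q + 1)`. -/
theorem nine_sq_le (q : ℕ) : 9 * q ^ 2 ≤ 4 * 4 ^ q := by
  induction q with
  | zero => norm_num
  | succ q ih =>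
    rcases Nat.eq_zero_or_pos q with h0 | h0
    · subst h0; norm_num
    · calc 9 * (q + 1) ^ 2 ≤ 4 * (9 * q ^ 2) := by nlinarith
        _ ≤ 4 * (4 * 4 ^ q) := Nat.mul_le_mul_left _ ih
        _ = _ := by ring

/-- The arithmetic of the odd case. -/
theorem sq_le_odd {m u q s n r : ℕ} (hs : 3 ≤ s) (hr : 4 ≤ r) (hru : r ^ q ≤ u) (hn : u ^ s ≤ n)
    (hq : 0 < q) (hm : m * (s - 1) ≤ (u - 1) * (s * q)) : (m + 1) ^ 2 ≤ n := by
  have hu : 4 ≤ u := le_trans hr (le_trans (Nat.le_self_pow hq.ne' r) hru)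
  obtain ⟨j, rfl⟩ := Nat.exists_eq_add_of_le hs
  obtain ⟨v, rfl⟩ := Nat.exists_eq_add_of_le hu
  rw [show 3 + j - 1 = 2 + j by omega, show 4 + v - 1 = 3 + v by omega] at hm
  have h1 : 2 * m ≤ 3 * q * (3 + v) := by
    by_contra hlt
    push Not at hlt
    have := Nat.mul_le_mul_right (2 + j) (Nat.succ_le_of_lt hlt)
    nlinarith [Nat.zero_le (v * q * j), Nat.zero_le (q * j), Nat.zero_le (v * q)]
  have h2 : 2 * (m + 1) ≤ 3 * q * (4 + v) := by nlinarith
  have h3 : 9 * q ^ 2 ≤ 4 * (4 + v) :=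
    (nine_sq_le q).trans (Nat.mul_le_mul_left _ ((Nat.pow_le_pow_left hr q).trans hru))
  have h4 : 4 * (m + 1) ^ 2 ≤ 4 * (4 + v) ^ 3 :=
    calc 4 * (m + 1) ^ 2 = (2 * (m + 1)) ^ 2 := by ring
      _ ≤ (3 * q * (4 + v)) ^ 2 := Nat.pow_le_pow_left h2 2
      _ = 9 * q ^ 2 * (4 + v) ^ 2 := by ring
      _ ≤ 4 * (4 + v) * (4 + v) ^ 2 := Nat.mul_le_mul_right _ h3
      _ = _ := by ring
  exact (Nat.le_of_mul_le_mul_left h4 (by norm_num)).trans
    ((Nat.pow_le_pow_right (by omega) (by omega)).trans hn)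

/-- Subgroups of order `s` meet trivially, so there are at most `(|Q| - 1)/(s - 1)` of them. -/
theorem ncard_subgroups_prime_order {Q : Type*} [Group Q] [Finite Q] {s : ℕ} (hs : s.Prime) :
    {L : Subgroup Q | Nat.card L = s}.ncard * (s - 1) ≤ Nat.card Q - 1 := by
  classical
  have := Fintype.ofFinite Q
  have := Fact.mk hs
  set T := (Set.toFinite {L : Subgroup Q | Nat.card L = s}).toFinset
  have hT : ∀ L ∈ T, Nat.card L = s := fun L hL => by
    simpa [T] using hL
  let e : Subgroup Q → Finset Q := fun L => (Finset.univ.filter (· ∈ L)).erase 1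
  have hcard : ∀ L ∈ T, (e L).card = s - 1 := by
    intro L hL
    rw [Finset.card_erase_of_mem (by simp [one_mem]), ← hT L hL, Nat.card_eq_fintype_card,
      Fintype.card_subtype]
  have hdis : (T : Set (Subgroup Q)).PairwiseDisjoint e := by
    intro L hL L' hL' hne
    refine Finset.disjoint_left.2 fun a ha ha' => hne ?_
    simp only [e, Finset.mem_erase, Finset.mem_filter, Finset.mem_univ, true_and] at ha ha'
    have : ∀ J ∈ T, a ∈ J → zpowers a = J := by
      intro J hJ haJ
      refine eq_of_le_of_card_ge (zpowers_le.2 haJ) ?_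
      rw [hT J hJ, Nat.card_zpowers]
      have h1 : orderOf a ∣ Nat.card J := Subgroup.orderOf_dvd_natCard J haJ
      rw [hT J hJ] at h1
      exact (((Nat.dvd_prime hs).1 h1).resolve_left fun e1 => ha.1 (orderOf_eq_one_iff.1 e1)).ge
    rw [← this L (Finset.mem_coe.1 hL) ha.2, this L' (Finset.mem_coe.1 hL') ha'.2]
  have h1 : (T.biUnion e).card ≤ (Finset.univ.erase (1 : Q)).card :=
    Finset.card_le_card fun a ha => by
      obtain ⟨L, -, haL⟩ := Finset.mem_biUnion.1 ha
      exact Finset.mem_erase.2 ⟨(Finset.mem_erase.1 haL).1, Finset.mem_univ _⟩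
  rw [Finset.card_biUnion hdis, Finset.sum_congr rfl hcard, Finset.sum_const, smul_eq_mul,
    Finset.card_erase_of_mem (Finset.mem_univ _), Finset.card_univ, ← Nat.card_eq_fintype_card] at h1
  rwa [Set.ncard_eq_toFinset_card _ (Set.toFinite _)]

variable {s : ℕ} {K0 S H U : Subgroup M} {z : M} (c : SympCtx s K0 S H U z)
variable {V : Type*} [AddCommGroup V] [DistribMulAction M V] [Finite V] [Nontrivial V] {p : ℕ}
  (h : Setup V p K0) (hirr : Irred M V)
include c h hirr

/-- The exact bound for odd `s` and a noncentral element of order `s` in `H`. -/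
theorem sq_of_inner_odd {x : M} (hx : x ∈ H) (hxU : x ∉ U) (hxs : x ^ s = 1) (hs : 3 ≤ s) :
    (K0.index + 1) ^ 2 ≤ Nat.card V := by
  classical
  have := Fact.mk c.prime
  obtain ⟨g, hg, hne, hmem⟩ := c.exists_noncentral hx hxU
  obtain ⟨hW, hcard⟩ := c.translates h hirr (c.HS hx) hxs (c.HS hg) hmem hne
    (by rw [commutatorElement_def]; group)
  set W := fixSub V (zpowers x)
  obtain ⟨⟨u, hu⟩, hu0⟩ := (AddSubgroup.ne_bot_iff_exists_ne_zero).1 hW
  have hu0' : u ≠ 0 := fun e => hu0 (Subtype.ext e)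
  set X := H ⊓ centralizer {x}
  set A := X ⊓ stabilizer M u
  have hAH : A ≤ H := inf_le_left.trans inf_le_left
  have hxA : x ∈ A := ⟨⟨hx, Subgroup.mem_centralizer_singleton_iff.2 rfl⟩, fixSub_zpowers.1 hu⟩
  have hAU : A ⊓ U = ⊥ := (Subgroup.eq_bot_iff_forall _).2 fun a ha => by_contra fun ha1 =>
    hu0' (c.U_free h hirr ha.2 ha1 ha.1.2)
  have hAc : ∀ a ∈ A, ∀ b ∈ A, Commute a b := by
    intro a ha b hb
    rw [Commute, SemiconjBy, ← commutatorElement_eq_one_iff_mul_comm]
    by_contra hne1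
    refine hu0' (c.z_free h hirr (c.comm a (hAH ha) b (hAH hb)) hne1 ?_)
    have := (stabilizer M u).mul_mem ((stabilizer M u).mul_mem ((stabilizer M u).mul_mem ha.2 hb.2)
      ((stabilizer M u).inv_mem ha.2)) ((stabilizer M u).inv_mem hb.2)
    exact this
  -- the normalizer of `⟨x⟩`
  set Y := Subgroup.normalizer ((zpowers x : Subgroup M) : Set M)
  have hXY : X ≤ Y := by
    intro y hy
    rw [Subgroup.mem_normalizer_iff]
    intro w
    have hyx := Subgroup.mem_centralizer_singleton_iff.1 hy.2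
    have hcm : ∀ v ∈ zpowers x, y * v * y⁻¹ = v := fun v hv => by
      obtain ⟨i, rfl⟩ := mem_zpowers_iff.1 hv
      rw [((show Commute y x from hyx).zpow_right i).eq, mul_inv_cancel_right]
    refine ⟨fun hw => by rwa [hcm w hw], fun hw => ?_⟩
    have h1 := hcm _ hw
    have h2 : w = y * w * y⁻¹ := by
      have := congrArg (fun v => y⁻¹ * v * y) h1
      simpa [mul_assoc] using this.symm
    rw [h2]; exact hw
  have hXK : X ≤ K0 := inf_le_left.trans (c.HS.trans c.S_le)
  have hrel := h.relIndex_mul_card_le (Y := Y) hXY hXK (U := W)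
    (fun y hy v hv => smul_mem_fixSub hy hv) hu hu0'
  -- the conjugates of `⟨x⟩` modulo `U`
  have hf : ∀ g : M, g * x * g⁻¹ ∈ H := fun g => c.conj_mem_H hx
  have : (U.subgroupOf H).Normal := c.U_normal.subgroupOf H
  set Q := H ⧸ U.subgroupOf H
  let π : H →* Q := QuotientGroup.mk' _
  have hπ : ∀ w : H, π w = 1 ↔ (w : M) ∈ U := fun w => by
    rw [QuotientGroup.mk'_apply, QuotientGroup.eq_one_iff, mem_subgroupOf]
  let f : M → Subgroup Q := fun g => zpowers (π ⟨g * x * g⁻¹, hf g⟩)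
  have hfs : ∀ g, f g ∈ {L : Subgroup Q | Nat.card L = s} := by
    intro g
    show Nat.card (zpowers _) = s
    rw [Nat.card_zpowers]
    refine orderOf_eq_prime ?_ fun e => c.conj_not_mem_U hxU ((hπ _).1 e)
    rw [← map_pow, hπ]
    simp [conj_pow, hxs, U.one_mem]
  have hidx : (Y ⊔ K0).index ≤ {L : Subgroup Q | Nat.card L = s}.ncard := by
    refine h.index_sup_le _ (Set.toFinite _) f hfs fun g g' he => ?_
    have h1 : π ⟨g' * x * g'⁻¹, hf g'⟩ ∈ f g := by rw [he]; exact mem_zpowers _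
    obtain ⟨i, hi⟩ : ∃ i : ℕ, π ⟨g * x * g⁻¹, hf g⟩ ^ i = π ⟨g' * x * g'⁻¹, hf g'⟩ :=
      (mem_powers_iff_mem_zpowers).2 h1
    rw [← map_pow, ← inv_mul_eq_one, ← map_inv, ← map_mul, hπ] at hi
    simp only [Subgroup.coe_mul, Subgroup.coe_inv, Subgroup.coe_pow, conj_pow] at hi
    set X1 := g * x ^ i * g⁻¹
    have hX1H : X1 ∈ H := c.conj_mem_H (H.pow_mem hx i)
    have hX1U : X1 ∉ U := fun hm => c.conj_not_mem_U (g := g') hxU (by
      have := U.mul_mem hm hi
      rwa [mul_inv_cancel_left] at this)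
    have hcm : Commute X1 (X1⁻¹ * (g' * x * g'⁻¹)) := c.central _ hi X1 hX1H
    have ha : X1⁻¹ * (g' * x * g'⁻¹) ∈ zpowers z := by
      refine c.torsion _ hi ?_
      have h2 := hcm.mul_pow s
      rw [mul_inv_cancel_left, conj_pow, hxs, mul_one, mul_inv_cancel] at h2
      have h3 : X1 ^ s = 1 := by
        simp only [X1, conj_pow, ← pow_mul, mul_comm i s]
        simp [pow_mul, hxs]
      rw [h3, one_mul] at h2
      exact h2.symm
    obtain ⟨t, ht, htX⟩ := c.exists_conj hX1H hX1U ha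
    rw [← hcm.eq, mul_inv_cancel_left] at htX
    refine ⟨t, c.S_le (c.HS ht), ?_⟩
    have hd : (g'⁻¹ * t * g) * x ^ i * (g'⁻¹ * t * g)⁻¹ = x := by
      calc _ = g'⁻¹ * (t * X1 * t⁻¹) * g' := by simp only [X1]; group
        _ = x := by rw [htX]; group
    have hy : (g'⁻¹ * t * g)⁻¹ * x * (g'⁻¹ * t * g) ∈ zpowers x := by
      have : (g'⁻¹ * t * g)⁻¹ * x * (g'⁻¹ * t * g) = x ^ i := by
        conv_lhs => arg 1; arg 2; rw [← hd]
        group
      rw [this]; exact pow_mem (mem_zpowers x) i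
    set d := g'⁻¹ * t * g
    have hle : (zpowers x).map (MulAut.conj d⁻¹).toMonoidHom = zpowers x := by
      refine eq_of_le_of_card_ge ?_ (le_of_eq (card_map_of_injective (MulAut.conj d⁻¹).injective).symm)
      rw [MonoidHom.map_zpowers, zpowers_le]
      simpa using hy
    have hd' : d⁻¹ ∈ Y := by
      rw [Subgroup.mem_normalizer_iff]
      intro w
      conv_rhs => rw [← hle]
      exact (Subgroup.mem_map_iff_mem (MulAut.conj d⁻¹).injective).symm
    simpa using Y.inv_mem hd'
  have hlines := ncard_subgroups_prime_order (Q := Q) c.prime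
  -- the translates
  obtain ⟨j, hj⟩ : ∃ j, Nat.card A = s ^ (j + 1) := by
    obtain ⟨k, hk⟩ := IsPGroup.iff_card.1 ((c.S_pgroup.to_le (hAH.trans c.HS)))
    cases k with
    | zero =>
      exfalso
      rw [pow_zero, Subgroup.card_eq_one] at hk
      rw [hk, mem_bot] at hxA
      exact hxU (hxA ▸ U.one_mem)
    | succ k => exact ⟨k, hk⟩
  have hq : Nat.card A / s = s ^ j := by rw [hj, pow_succ, Nat.mul_div_cancel _ c.prime.pos]
  have htr := translates_le c h hirr hAH hAU hAc hxA hxU hxs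
  rw [hq] at htr
  have hz : s ≤ Nat.card U := by
    rw [← c.z_order, ← Nat.card_zpowers]
    exact Subgroup.card_le_of_le c.z_le
  have hr : 4 ≤ Nat.card (fixSub V A) := by
    have hd := card_U_dvd c h hirr hAH
    have h1 : 1 < Nat.card (fixSub V A) := by
      have : Nontrivial (fixSub V A) := ⟨⟨u, fun a ha => ha.2⟩, 0, fun e => hu0' (congrArg Subtype.val e)⟩
      exact Finite.one_lt_card
    have := Nat.le_of_dvd (by omega) hd
    omega
  refine sq_le_odd hs hr htr hcard (pow_pos c.prime.pos j) ?_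
  -- the index
  have hX : s * Nat.card X = Nat.card H := card_mul_card_centralizer_singleton c hx hxU hxs
  have hQ : Nat.card Q * Nat.card U = Nat.card H := by
    rw [← Nat.card_congr (subgroupOfEquivOfLe c.UH).toEquiv, mul_comm]
    exact card_mul_index _
  have hQX : Nat.card Q ≤ Nat.card X := by
    refine Nat.le_of_mul_le_mul_left ?_ c.prime.pos
    rw [hX, ← hQ, mul_comm]
    exact Nat.mul_le_mul_left _ hz
  rw [h.index_split Y, mul_right_comm]
  refine Nat.le_of_mul_le_mul_right (?_ : _ * Nat.card X ≤ _) Nat.card_pos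
  calc (Y ⊔ K0).index * (s - 1) * K0.relIndex Y * Nat.card X
      = ((Y ⊔ K0).index * (s - 1)) * (K0.relIndex Y * Nat.card X) := by ring
    _ ≤ Nat.card X * ((Nat.card W - 1) * Nat.card A) :=
        Nat.mul_le_mul (((Nat.mul_le_mul_right _ hidx).trans hlines).trans
          ((Nat.sub_le _ _).trans hQX)) hrel
    _ = _ := by rw [hj, pow_succ]; ring

end CfsgLib.DerangeExact
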