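import Cfsg.Agent.Lib.DerangeExact.TwoBase
import Cfsg.Agent.Lib.DerangeExact.Arith

/-!
The exact bound for a normal 2-subgroup of symplectic type in which two commuting noncentral
involutions fix a common non-zero vector.
-/

set_option autoImplicit false
set_option linter.unusedSectionVars false

open MulAction Subgroup
open scoped commutatorElement

namespace CfsgLib.DerangeExact

open CfsgLib.DerangeIndex

variable {M : Type*} [Group M] [Finite M]

section Numbers

theorem num_no_free {P I u : ℕ} (h : P * 2 ≤ P + I * (u - 1)) (hP : P + 1 = u * u) (hu : 2 ≤ u) :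
    u + 1 ≤ I := by
  by_contra hI
  obtain ⟨j, rfl⟩ : ∃ j, u = j + 2 := ⟨u - 2, by omega⟩
  rw [show j + 2 - 1 = j + 1 by omega] at h
  have h2 : I * (j + 1) ≤ (j + 2) * (j + 1) := Nat.mul_le_mul_right _ (by omega)
  nlinarith

theorem num_one_orbit {j a I H m : ℕ} (hj : 0 < j) (ha : 4 ≤ a) (hm : j + 1 ≤ m)
    (hb : (j * j + 2 * j) * a = j * j + 2 * j + I * j) (hO : m * H ≤ (j * j + 2 * j) * a) :
    3 * H < 4 * I := by
  have hkey : (j + 2) * a = j + 2 + I := by
    refine Nat.eq_of_mul_eq_mul_left hj ?_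
    calc j * ((j + 2) * a) = (j * j + 2 * j) * a := by ring
      _ = _ := by rw [hb]; ring
  have h1 : (j + 1) * H ≤ m * H := Nat.mul_le_mul_right _ hm
  have h2 : 0 < (j + 2) * a := by positivity
  have h3 : (j + 1) * H < (j + 1) * ((j + 2) * a) := by
    calc (j + 1) * H ≤ j * ((j + 2) * a) := by
          refine (h1.trans hO).trans (le_of_eq ?_); ring
      _ < _ := Nat.mul_lt_mul_of_pos_right (by omega) h2
  have h4 := Nat.lt_of_mul_lt_mul_left h3
  have h5 : 4 * (j + 2) ≤ (j + 2) * a := by rw [mul_comm]; exact Nat.mul_le_mul_left _ ha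
  omega

theorem num_square {I H : ℕ} {K : ℤ} (hK : K = 2 * ((I : ℤ) + 2) - H) (hsq : K ^ 2 = 2 * (H : ℤ))
    (h : 3 * H < 4 * I) : False := by
  have h1 : (H : ℤ) + 8 < 2 * K := by omega
  have h2 : ((H : ℤ) + 8) ^ 2 < (2 * K) ^ 2 := by
    apply pow_lt_pow_left₀ h1 (by positivity) two_ne_zero
  nlinarith

theorem num_two_orbits {j I H m : ℕ} (hH : 0 < H) (hm : j + 1 ≤ m) (hI : j + 2 ≤ I) (hIH : I ≤ H)
    (h : m * H + m * H ≤ j * j + 2 * j + I * j) : False := by
  have h2 : (j + 1) * H ≤ m * H := Nat.mul_le_mul_right _ hm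
  have h3 : (j + 2) * j ≤ I * j := Nat.mul_le_mul_right _ hI
  have h4 : I * j ≤ H * j := Nat.mul_le_mul_right _ hIH
  nlinarith

theorem num_bound {H J I a : ℕ} (hJ : I + 2 = J) (hsq : (2 * (J : ℤ) - H) ^ 2 = 2 * (H : ℤ))
    (ha : a * (a * 2) ≤ H) : 2 * I * a ≤ H * (a + 2) := by
  have h8 : ((a : ℤ) * (a * 2)) ≤ H := by exact_mod_cast ha
  have hsqle : ((2 * (J : ℤ) - H) * a) ^ 2 ≤ (H : ℤ) ^ 2 := by
    calc ((2 * (J : ℤ) - H) * a) ^ 2 = H * ((a : ℤ) * (a * 2)) := by rw [mul_pow, hsq]; ring
      _ ≤ H * H := mul_le_mul_of_nonneg_left h8 (Nat.cast_nonneg _)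
      _ = _ := by ring
  have hKa := (abs_le_of_sq_le_sq' hsqle (Nat.cast_nonneg _)).2
  subst hJ
  zify
  push_cast at hKa
  nlinarith [Nat.cast_nonneg (α := ℤ) a, Nat.cast_nonneg (α := ℤ) H]

theorem num_mix {o1 o2 N a W : ℕ} (h1 : N ≤ o1 * 2) (h2 : N ≤ o2 * a) (h3 : o1 + o2 ≤ W) :
    N * (a + 2) ≤ 2 * a * W := by
  calc N * (a + 2) = N * a + N * 2 := by ring
    _ ≤ o1 * 2 * a + o2 * a * 2 := Nat.add_le_add (Nat.mul_le_mul_right _ h1) (Nat.mul_le_mul_right _ h2)
    _ = 2 * a * (o1 + o2) := by ring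
    _ ≤ _ := Nat.mul_le_mul_left _ h3

theorem num_two_pow_le {k B : ℕ} (n : ℕ) (h : 2 ^ k * 2 ^ k ≤ B) (hB : B < 2 ^ n * 2 ^ n) : k < n := by
  by_contra hge
  have h1 := Nat.pow_le_pow_right (show 0 < 2 by norm_num) (not_lt.1 hge)
  have := Nat.mul_le_mul h1 h1
  omega

theorem num_orbit_cap {o S m m1 b X I : ℕ} {d W B T : ℕ} (he1 : m1 * X ≤ o * (d + 4))
    (he2 : o * d + 4 * W ≤ S) (hS : S ≤ B) (hX : T ≤ X) (hb : 2 * b ≤ I) (hm : m = b * m1) :
    m * (T * d) * 2 ≤ I * ((B - 4 * W) * (d + 4)) := by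
  have e1 : m1 * (T * d) ≤ (B - 4 * W) * (d + 4) :=
    calc m1 * (T * d) ≤ m1 * X * d := by
          rw [← mul_assoc]; exact Nat.mul_le_mul_right _ (Nat.mul_le_mul_left _ hX)
      _ ≤ o * (d + 4) * d := Nat.mul_le_mul_right _ he1
      _ = o * d * (d + 4) := by ring
      _ ≤ _ := Nat.mul_le_mul_right _ (by omega)
  calc m * (T * d) * 2 = 2 * b * (m1 * (T * d)) := by rw [hm]; ring
    _ ≤ _ := Nat.mul_le_mul hb e1

theorem card_eq_pow_finrank (p : ℕ) [Fact p.Prime] (V : Type*) [AddCommGroup V] [Module (ZMod p) V]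
    [Finite V] : Nat.card V = p ^ Module.finrank (ZMod p) V := by
  rw [Module.natCard_eq_pow_finrank (K := ZMod p) (V := V), Nat.card_zmod]

end Numbers

section

variable {K0 S H U : Subgroup M} {z : M} (c : SympCtx 2 K0 S H U z)
variable {V : Type*} [AddCommGroup V] [DistribMulAction M V] [Finite V] [Nontrivial V] {p : ℕ}
  (h : Setup V p K0) (hirr : Irred M V)
include c h hirr

/-- The elements of `H` fixing a non-zero vector are involutions outside `U`. -/
theorem fix_cases {g : M} (hg : g ∈ H) {v : V} (hv : v ≠ 0) (hgv : g • v = v) :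
    g = 1 ∨ (g ∉ U ∧ g * g = 1) := by
  by_cases hg1 : g = 1
  · exact Or.inl hg1
  refine Or.inr ⟨fun hU => hv (c.U_free h hirr hU hg1 hgv), by_contra fun hne => ?_⟩
  refine hv (c.U_free h hirr (c.pow_mem_U g hg) (by rwa [sq]) ?_)
  exact pow_mem (show g ∈ stabilizer M v from hgv) 2

theorem stab_comm {a b : M} (ha : a ∈ H) (hb : b ∈ H) {v : V} (hv : v ≠ 0) (hav : a • v = v)
    (hbv : b • v = v) : Commute a b := by
  rw [Commute, SemiconjBy, ← commutatorElement_eq_one_iff_mul_comm]
  by_contra hne
  refine hv (c.z_free h hirr (c.comm a ha b hb) hne ?_)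
  exact (stabilizer M v).mul_mem ((stabilizer M v).mul_mem ((stabilizer M v).mul_mem hav hbv)
    ((stabilizer M v).inv_mem hav)) ((stabilizer M v).inv_mem hbv)

theorem stab_bound {v : V} (hv : v ≠ 0) :
    Nat.card (H ⊓ stabilizer M v : Subgroup M) * (Nat.card (H ⊓ stabilizer M v : Subgroup M) * Nat.card U)
      ≤ Nat.card H := by
  set A := H ⊓ stabilizer M v
  have hAU : A ⊓ U = ⊥ := (Subgroup.eq_bot_iff_forall _).2 fun a ha => by_contra fun ha1 =>
    hv (c.U_free h hirr ha.2 ha1 ha.1.2)
  conv_rhs => rw [← card_mul_card_centralizer c (inf_le_left : A ≤ H) hAU]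
  refine Nat.mul_le_mul_left _ ?_
  rw [← Nat.card_prod]
  refine Nat.card_le_card_of_injective (fun au : A × U =>
    (⟨(au.1 : M) * au.2, H.mul_mem au.1.2.1 (c.UH au.2.2), Subgroup.mem_centralizer_iff.2 fun a ha =>
      ((stab_comm c h hirr ha.1 au.1.2.1 hv ha.2 au.1.2.2).mul_right (c.central _ au.2.2 a ha.1)).eq⟩ :
      (H ⊓ centralizer (A : Set M) : Subgroup M))) fun au au' he => ?_
  have he' := congrArg Subtype.val he
  simp only at he'
  have h1 : (au'.1 : M)⁻¹ * au.1 = (au'.2 : M) * (au.2 : M)⁻¹ := by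
    rw [eq_mul_inv_iff_mul_eq, mul_assoc, he', inv_mul_cancel_left]
  have h2 : (au'.1 : M)⁻¹ * au.1 ∈ A ⊓ U :=
    ⟨A.mul_mem (A.inv_mem au'.1.2) au.1.2, h1 ▸ U.mul_mem au'.2.2 (U.inv_mem au.2.2)⟩
  rw [hAU, mem_bot] at h2
  rw [h2] at h1
  exact Prod.ext (Subtype.ext (inv_mul_eq_one.1 h2).symm) (Subtype.ext (mul_inv_eq_one.1 h1.symm).symm)

theorem stab_eq_two_pow {v : V} : ∃ k, Nat.card (H ⊓ stabilizer M v : Subgroup M) = 2 ^ k :=
  IsPGroup.iff_card.1 (c.S_pgroup.to_le (inf_le_left.trans c.HS))

theorem relIndex_eq_two_pow : ∃ k, U.relIndex H = 2 ^ k := by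
  have := Fact.mk Nat.prime_two
  exact (c.S_pgroup.to_le c.HS).index (U.subgroupOf H)

set_option maxHeartbeats 2000000 in
/-- The exact bound when two commuting involutions fix a common vector. -/
theorem sq_of_pair {x y : M} (hx : x ∈ H) (hy : y ∈ H) (hxU : x ∉ U) (hxs : x ^ 2 = 1)
    (hxy : Commute x y) (hyx : y ∉ zpowers x) {u0 : V} (hu0 : u0 ≠ 0) (hxu : x • u0 = u0)
    (hyu : y • u0 = u0) : (K0.index + 1) ^ 2 ≤ Nat.card V := by
  classical
  have := Fintype.ofFinite M
  have := Fintype.ofFinite V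
  have hz1 := z_ne_one c
  have hzH : z ∈ H := c.UH c.z_mem
  set u := Nat.card (fixSub V (zpowers x))
  set m := K0.index
  have hn : u ^ 2 = Nat.card V := card_fix_sq c h hirr hx hxU hxs
  set a : V → ℕ := fun v => Nat.card (H ⊓ stabilizer M v : Subgroup M)
  set Jf := Finset.univ.filter fun g : M => g ∈ H ∧ g * g = 1
  set If := Finset.univ.filter fun g : M => g ∈ H ∧ g ∉ U ∧ g * g = 1
  set Hf := Finset.univ.filter fun g : M => g ∈ H
  set W0 := Finset.univ.filter fun v : V => v ≠ 0 ∧ x • v = v with hW0def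
  set P := Finset.univ.filter fun v : V => v ≠ 0 with hPdef
  have hfixcard : ∀ g : M, (P.filter fun v => g • v = v).card + 1 = Nat.card (fixSub V (zpowers g)) := by
    intro g
    rw [Finset.filter_filter, show Nat.card (fixSub V (zpowers g)) =
      (Finset.univ.filter fun v : V => g • v = v).card by
        rw [← Fintype.card_subtype, ← Nat.card_eq_fintype_card]
        exact Nat.card_congr (Equiv.subtypeEquivRight fun v => fixSub_zpowers),
      show (Finset.univ.filter fun v : V => v ≠ 0 ∧ g • v = v) =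
        (Finset.univ.filter fun v : V => g • v = v).erase 0 by ext; simp,
      Finset.card_erase_add_one (by simp)]
  have hW0card : W0.card + 1 = u := by
    have h1 := hfixcard x
    rw [Finset.filter_filter] at h1
    exact h1
  have hn1 : 1 ≤ u := Nat.card_pos
  have hPcard : P.card + 1 = u * u := by
    rw [← sq, hn, Nat.card_eq_fintype_card, show P = Finset.univ.erase (0 : V) by ext; simp [P],
      Finset.card_erase_add_one (Finset.mem_univ _), Finset.card_univ]
  have hu0W : u0 ∈ W0 := by simp [W0, hu0, hxu]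
  have hxyH : ∀ g ∈ ({1, x, y} : Finset M), g ∈ H ⊓ stabilizer M u0 := by
    intro g hg
    simp only [Finset.mem_insert, Finset.mem_singleton] at hg
    rcases hg with rfl | rfl | rfl
    · exact one_mem _
    · exact ⟨hx, hxu⟩
    · exact ⟨hy, hyu⟩
  have ha0 : 4 ≤ a u0 := by
    have h3 : 3 ≤ a u0 := by
      have hx1 : x ≠ 1 := fun e => hxU (e ▸ U.one_mem)
      have hy1 : y ≠ 1 := fun e => hyx (e ▸ one_mem _)
      have hxy' : x ≠ y := fun e => hyx (e ▸ mem_zpowers x)
      have h1 : ({1, x, y} : Finset M).card = 3 := Finset.card_eq_three.2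
        ⟨1, x, y, hx1.symm, hy1.symm, hxy', rfl⟩
      rw [← h1]
      simp only [a, Nat.card_eq_fintype_card, Fintype.card_subtype]
      exact Finset.card_le_card fun g hg => Finset.mem_filter.2 ⟨Finset.mem_univ _, hxyH g hg⟩
    obtain ⟨k, hk⟩ := stab_eq_two_pow c h hirr (v := u0)
    simp only [a] at h3 ⊢
    rw [hk] at h3 ⊢
    rcases k with _ | _ | k
    · norm_num at h3
    · norm_num at h3
    · calc 4 = 2 ^ 2 := by norm_num
        _ ≤ _ := Nat.pow_le_pow_right (by norm_num) (by omega)
  -- involutions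
  have hIJ : If.card + 2 = Jf.card := by
    have h1 : Jf = If ∪ {1, z} := by
      ext g
      simp only [Jf, If, Finset.mem_union, Finset.mem_filter, Finset.mem_univ, true_and,
        Finset.mem_insert, Finset.mem_singleton]
      constructor
      · rintro ⟨hgH, hg⟩
        by_cases hgU : g ∈ U
        · exact Or.inr ((mem_zpowers_z c).1 (c.torsion g hgU (by rw [sq]; exact hg)))
        · exact Or.inl ⟨hgH, hgU, hg⟩
      · rintro (⟨h1, -, h2⟩ | rfl | rfl)
        · exact ⟨h1, h2⟩
        · exact ⟨H.one_mem, one_mul 1⟩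
        · exact ⟨hzH, by rw [← sq, c.z_pow]⟩
    rw [h1, Finset.card_union_of_disjoint, Finset.card_pair hz1.symm]
    rw [Finset.disjoint_left]
    intro g hg hg'
    simp only [If, Finset.mem_filter, Finset.mem_univ, true_and] at hg
    simp only [Finset.mem_insert, Finset.mem_singleton] at hg'
    rcases hg' with rfl | rfl
    · exact hg.2.1 U.one_mem
    · exact hg.2.1 c.z_mem
  have hH2 : Nat.card H = 2 * Nat.card (H ⊓ centralizer {x} : Subgroup M) :=
    (card_mul_card_centralizer_singleton c hx hxU hxs).symm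
  have hHf : Hf.card = Nat.card H := by rw [Nat.card_eq_fintype_card, Fintype.card_subtype]
  have hJH : Jf.card ≤ Nat.card H := hHf ▸ Finset.card_le_card fun g hg => by
    simp only [Jf, Hf, Finset.mem_filter, Finset.mem_univ, true_and] at hg ⊢
    exact hg.1
  have hHt := card_H_eq c
  have hU2 : 2 ≤ Nat.card U := by
    rw [← c.z_order, ← Nat.card_zpowers]
    exact Subgroup.card_le_of_le c.z_le
  have hUcases : Nat.card U = 2 ∨ 4 ∣ Nat.card U := by
    obtain ⟨k, hk⟩ := IsPGroup.iff_card.1 (c.S_pgroup.to_le (c.UH.trans c.HS))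
    rcases k with _ | _ | k
    · rw [hk] at hU2; norm_num at hU2
    · exact Or.inl (by rw [hk]; norm_num)
    · exact Or.inr ⟨2 ^ k, by rw [hk]; ring⟩
  -- Burnside on the non-zero vectors
  have hburn : ∑ v ∈ P, a v = P.card + If.card * (u - 1) := by
    simp only [a]
    rw [sum_card_stab H P]
    have hone : (1 : M) ∈ Hf := by simp [Hf, H.one_mem]
    have hsub : If ⊆ Hf.erase 1 := fun g hg => by
      simp only [If, Hf, Finset.mem_filter, Finset.mem_univ, true_and, Finset.mem_erase] at hg ⊢
      exact ⟨fun e => hg.2.1 (e ▸ U.one_mem), hg.1⟩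
    rw [← Finset.add_sum_erase _ _ hone, ← Finset.sum_subset hsub ?_]
    · congr 1
      · simp
      · rw [Finset.sum_congr rfl (g := fun _ => u - 1), Finset.sum_const, smul_eq_mul]
        intro g hg
        simp only [If, Finset.mem_filter, Finset.mem_univ, true_and] at hg
        have h1 := hfixcard g
        have h2 : Nat.card (fixSub V (zpowers g)) = u := Nat.pow_left_injective two_ne_zero
          ((card_fix_sq c h hirr hg.1 hg.2.1 (by rw [sq]; exact hg.2.2)).trans hn.symm)
        omega
    · intro g hg hgI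
      simp only [Hf, Finset.mem_erase, Finset.mem_filter, Finset.mem_univ, true_and] at hg
      rw [Finset.card_eq_zero, Finset.filter_eq_empty_iff]
      intro v hv hgv
      simp only [P, Finset.mem_filter, Finset.mem_univ, true_and] at hv
      rcases fix_cases c h hirr hg.2 hv hgv with e | ⟨e1, e2⟩
      · exact hg.1 e
      · exact hgI (by simp [If, hg.2, e1, e2])
  have ha1 : ∀ v, 1 ≤ a v := fun v => Nat.card_pos
  -- orbit bound on all vectors
  have horb : ∀ v : V, v ≠ 0 → m * Nat.card H ≤ (orbit (⊤ : Subgroup M) v).ncard * a v := by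
    intro v hv
    have h1 := relIndex_mul_card_le_orbit h (Y := ⊤) (X := H) le_top (c.HS.trans c.S_le) hv
    rwa [relIndex_top_right] at h1
  have hHnorm : (⊤ : Subgroup M) ≤ Subgroup.normalizer (H : Set M) := by
    have := c.H_normal
    rw [normalizer_eq_top]
  rw [← hn]
  refine Nat.pow_le_pow_left ?_ 2
  by_contra hlt
  have hum : u ≤ m := by omega
  have hIlow : ∀ v : V, v ≠ 0 → orbit (⊤ : Subgroup M) v ⊆ (P : Set V) := by
    rintro v hv _ ⟨g, rfl⟩
    simp only [P, Finset.coe_filter, Finset.mem_univ, true_and, Set.mem_ofPred_eq]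
    intro e
    exact hv ((smul_eq_zero_iff_eq (g : M)).1 e)
  -- a free vector
  by_cases hfree : ∃ v : V, v ≠ 0 ∧ a v = 1
  swap
  · push Not at hfree
    have hge2 : ∀ v ∈ P, 2 ≤ a v := fun v hv => by
      have := ha1 v
      have := hfree v (Finset.mem_filter.1 hv).2
      omega
    have hI1 : u + 1 ≤ If.card := by
      have h1 := Finset.sum_le_sum (f := fun _ => 2) hge2
      rw [Finset.sum_const, smul_eq_mul, hburn] at h1
      have hu2 : 2 ≤ u := by
        have : W0.card ≠ 0 := Finset.card_ne_zero_of_mem hu0W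
        omega
      exact num_no_free h1 hPcard hu2
    set O := (orbit (⊤ : Subgroup M) u0).toFinset with hO
    have hOP : O ⊆ P := fun w hw => hIlow u0 hu0 (Set.mem_toFinset.1 hw)
    have haO : ∀ w ∈ O, a w = a u0 := fun w hw => card_stab_eq hHnorm (Set.mem_toFinset.1 hw)
    have hO1 : m * Nat.card H ≤ ∑ w ∈ O, a w := by
      rw [Finset.sum_congr rfl haO, Finset.sum_const, smul_eq_mul, hO, ← Set.ncard_eq_toFinset_card']
      exact horb u0 hu0
    obtain ⟨j, hj⟩ : ∃ j, u = j + 1 := ⟨u - 1, by omega⟩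
    have hP' : P.card = j * j + 2 * j := by
      have : (j + 1) * (j + 1) = j * j + 2 * j + 1 := by ring
      rw [hj] at hPcard
      omega
    rw [hj, Nat.add_sub_cancel] at hburn
    by_cases hall : O = P
    · rw [hall] at hO1 haO
      rw [Finset.sum_congr rfl haO, Finset.sum_const, smul_eq_mul, hP'] at hburn hO1
      have hj0 : 0 < j := by
        have : W0.card ≠ 0 := Finset.card_ne_zero_of_mem hu0W
        omega
      have h34 : 3 * Nat.card H < 4 * If.card := num_one_orbit hj0 ha0 (by omega) hburn hO1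
      rcases hUcases with hU | hU
      · have hc := count_H c hU
        exact num_square (by rw [← hIJ]; push_cast; ring) hc h34
      · have hc := card_sq_one_mul c c.UH (le_refl H)
        have h4 := Nat.le_of_dvd (by omega) hU
        have : Jf.card * 4 ≤ 2 * Nat.card H := le_trans (Nat.mul_le_mul_left _ h4) hc
        omega
    · obtain ⟨w, hwP, hwO⟩ := Finset.exists_of_ssubset (lt_of_le_of_ne hOP hall)
      set O' := (orbit (⊤ : Subgroup M) w).toFinset with hO'
      have hw0 : w ≠ 0 := (Finset.mem_filter.1 hwP).2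
      have hO'1 : m * Nat.card H ≤ ∑ x ∈ O', a x := by
        rw [Finset.sum_congr rfl (g := fun _ => a w) fun x hx => card_stab_eq hHnorm (Set.mem_toFinset.1 hx),
          Finset.sum_const, smul_eq_mul, ← Set.ncard_eq_toFinset_card']
        exact horb w hw0
      have hdis : Disjoint O O' := by
        rw [Finset.disjoint_left]
        intro q hq hq'
        rw [Set.mem_toFinset] at hq hq'
        refine hwO (Set.mem_toFinset.2 ?_)
        rw [← orbit_eq_iff.2 hq, orbit_eq_iff.2 hq']
        exact mem_orbit_self w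
      have h1 := Finset.sum_le_sum_of_subset (f := a) (Finset.union_subset hOP
        (fun q hq => hIlow w hw0 (Set.mem_toFinset.1 hq)))
      rw [Finset.sum_union hdis, hburn, hP'] at h1
      exact num_two_orbits Nat.card_pos (by omega) (by omega) (by omega)
        ((Nat.add_le_add hO1 hO'1).trans h1)
  obtain ⟨v1, hv1, hav1⟩ := hfree
  have huH : Nat.card H < u := by
    have h1 := horb v1 hv1
    rw [hav1, mul_one] at h1
    have h2 : (orbit (⊤ : Subgroup M) v1).ncard ≤ P.card := by
      rw [← Set.ncard_coe_finset]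
      exact Set.ncard_le_ncard (hIlow v1 hv1) (Set.toFinite _)
    have h3 : u * Nat.card H ≤ m * Nat.card H := Nat.mul_le_mul_right _ hum
    have h4 : u * Nat.card H < u * u := by omega
    exact Nat.lt_of_mul_lt_mul_left h4
  -- inside the fixed space of `x`
  set X := H ⊓ centralizer {x}
  set Y := centralizer ({x} : Set M)
  have hXY : X ≤ Y := inf_le_right
  have hXK : X ≤ K0 := inf_le_left.trans (c.HS.trans c.S_le)
  have hXnorm : Y ≤ Subgroup.normalizer (X : Set M) := by
    intro g hg
    have hn1 := c.H_normal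
    rw [Subgroup.mem_normalizer_iff]
    intro w
    refine ⟨fun hw => ⟨hn1.conj_mem _ hw.1 g, Y.mul_mem (Y.mul_mem hg hw.2) (Y.inv_mem hg)⟩,
      fun hw => ⟨?_, ?_⟩⟩
    · simpa [mul_assoc] using hn1.conj_mem _ hw.1 g⁻¹
    · simpa [mul_assoc] using Y.mul_mem (Y.mul_mem (Y.inv_mem hg) hw.2) hg
  have hXa : ∀ v ∈ W0, Nat.card (X ⊓ stabilizer M v : Subgroup M) = a v := by
    intro v hv
    simp only [W0, Finset.mem_filter, Finset.mem_univ, true_and] at hv
    have : X ⊓ stabilizer M v = H ⊓ stabilizer M v := le_antisymm (inf_le_inf_right _ inf_le_left)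
      fun g hg => ⟨⟨hg.1, Subgroup.mem_centralizer_singleton_iff.2
        (stab_comm c h hirr hg.1 hx hv.1 hg.2 hv.2).eq⟩, hg.2⟩
    rw [this]
  have hYW : ∀ g ∈ Y, ∀ v ∈ W0, g • v ∈ W0 := by
    intro g hg v hv
    simp only [W0, Finset.mem_filter, Finset.mem_univ, true_and] at hv ⊢
    refine ⟨fun e => hv.1 ((smul_eq_zero_iff_eq g).1 e), ?_⟩
    rw [smul_smul, ← Subgroup.mem_centralizer_singleton_iff.1 hg, mul_smul, hv.2]
  set m1 := K0.relIndex Y
  set b := (Y ⊔ K0).index
  have hmb : m = b * m1 := h.index_split Y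
  have hW0ne : ∀ v ∈ W0, v ≠ 0 := fun v hv => (Finset.mem_filter.1 hv).2.1
  have horbY : ∀ v ∈ W0, m1 * Nat.card X ≤ (orbit Y v).toFinset.card * a v ∧
      (orbit Y v).toFinset ⊆ W0 ∧ ∀ w ∈ (orbit Y v).toFinset, a w = a v := by
    intro v hv
    have hsub : (orbit Y v).toFinset ⊆ W0 := fun w hw => by
      obtain ⟨g, rfl⟩ := Set.mem_toFinset.1 hw
      exact hYW g g.2 v hv
    refine ⟨?_, hsub, fun w hw => ?_⟩
    · rw [← Set.ncard_eq_toFinset_card', ← hXa v hv]
      exact relIndex_mul_card_le_orbit h hXY hXK (hW0ne v hv)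
    · rw [← hXa w (hsub hw), ← hXa v hv]
      exact card_stab_eq hXnorm (Set.mem_toFinset.1 hw)
  -- the number of classes
  have hb : 2 * b ≤ If.card := by
    set T := If.image fun g => ({g, z * g} : Finset M)
    have hT : 2 * T.card ≤ If.card := by
      refine Finset.mul_card_image_le_card If 2 fun s hs => ?_
      obtain ⟨g, hg, rfl⟩ := Finset.mem_image.1 hs
      simp only [If, Finset.mem_filter, Finset.mem_univ, true_and] at hg
      refine Finset.one_lt_card.2 ⟨g, by simp [If, hg], z * g, ?_, fun e => hz1 (mul_eq_right.1 e.symm)⟩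
      simp only [If, Finset.mem_filter, Finset.mem_univ, true_and]
      refine ⟨⟨H.mul_mem hzH hg.1, fun hm => hg.2.1 ?_, ?_⟩, ?_⟩
      · have := U.mul_mem (U.inv_mem c.z_mem) hm
        rwa [inv_mul_cancel_left] at this
      · rw [← sq, (c.z_central g (c.HS hg.1)).symm.mul_pow, c.z_pow, one_mul, sq, hg.2.2]
      · rw [← mul_assoc, ← sq, c.z_pow, one_mul]
        exact Finset.pair_comm _ _
    refine le_trans (Nat.mul_le_mul_left 2 ?_) hT
    rw [← Set.ncard_coe_finset]
    refine h.index_sup_le _ (Finset.finite_toSet _) (fun g => ({g * x * g⁻¹, z * (g * x * g⁻¹)} : Finset M))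
      (fun g => ?_) fun g g' he => ?_
    · exact Finset.mem_image_of_mem (fun w => ({w, z * w} : Finset M)) (Finset.mem_filter.2
        ⟨Finset.mem_univ _, c.conj_mem_H hx, c.conj_not_mem_U hxU,
        by rw [← sq, conj_pow, hxs, mul_one, mul_inv_cancel]⟩)
    · have hmem : g' * x * g'⁻¹ ∈ ({g * x * g⁻¹, z * (g * x * g⁻¹)} : Finset M) :=
        he ▸ Finset.mem_insert_self _ _
      simp only [Finset.mem_insert, Finset.mem_singleton] at hmem
      have hcm : (g * x * g⁻¹)⁻¹ * (g' * x * g'⁻¹) ∈ U := by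
        rcases hmem with e | e <;> rw [e]
        · rw [inv_mul_cancel]; exact U.one_mem
        · rw [← mul_assoc, ← (c.z_central _ (S.inv_mem (c.HS (c.conj_mem_H hx)))).eq.symm,
            inv_mul_cancel_right]
          exact c.z_mem
      obtain ⟨-, -, -, t, ht, htx⟩ := c.coset_conj hx hxU hxs hcm
      refine ⟨t, c.S_le (c.HS ht), ?_⟩
      rw [Subgroup.mem_centralizer_singleton_iff]
      calc g'⁻¹ * t * g * x = g'⁻¹ * (t * (g * x * g⁻¹) * t⁻¹) * (t * g) := by group
        _ = g'⁻¹ * (g' * x * g'⁻¹) * (t * g) := by rw [htx]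
        _ = x * (g'⁻¹ * t * g) := by group
  have hxX : x ∈ X := ⟨hx, Subgroup.mem_centralizer_singleton_iff.2 rfl⟩
  have hxa : ∀ v ∈ W0, 2 ≤ a v ∧ ∃ k, a v = 2 ^ k := by
    intro v hv
    refine ⟨?_, stab_eq_two_pow c h hirr⟩
    simp only [W0, Finset.mem_filter, Finset.mem_univ, true_and] at hv
    have : Nontrivial (H ⊓ stabilizer M v : Subgroup M) :=
      ⟨⟨x, hx, hv.2⟩, 1, fun e => hxU ((show x = 1 from congrArg Subtype.val e) ▸ U.one_mem)⟩
    exact Finite.one_lt_card
  by_cases hfreeW : ∃ v ∈ W0, a v = 2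
  · obtain ⟨v, hv, hav⟩ := hfreeW
    obtain ⟨h1, h1s, h1a⟩ := horbY v hv
    obtain ⟨h2, h2s, h2a⟩ := horbY u0 hu0W
    have hdis : Disjoint (orbit Y v).toFinset (orbit Y u0).toFinset := by
      rw [Finset.disjoint_left]
      intro q hq hq'
      have := (h1a q hq).symm.trans (h2a q hq')
      omega
    have h3 := Finset.card_le_card (Finset.union_subset h1s h2s)
    rw [Finset.card_union_of_disjoint hdis] at h3
    rw [hav] at h1
    have hbnd : 2 * If.card * a u0 ≤ Nat.card H * (a u0 + 2) := by
      rcases hUcases with hU | hU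
      · have hc := count_H c hU
        have ha2 := stab_bound c h hirr hu0
        rw [hU] at ha2
        change a u0 * (a u0 * 2) ≤ Nat.card H at ha2
        exact num_bound hIJ hc ha2
      · have hc := card_sq_one_mul c c.UH (le_refl H)
        have h4 := Nat.le_of_dvd (by omega) hU
        have h5 : Jf.card * 4 ≤ 2 * Nat.card H := le_trans (Nat.mul_le_mul_left _ h4) hc
        calc 2 * If.card * a u0 ≤ Nat.card H * a u0 := Nat.mul_le_mul_right _ (by omega)
          _ ≤ _ := Nat.mul_le_mul_left _ (by omega)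
    have h6 : m1 * Nat.card X * (a u0 + 2) ≤ 2 * a u0 * W0.card := num_mix h1 h2 h3
    have h7 : m * (Nat.card H * (a u0 + 2)) ≤ W0.card * (Nat.card H * (a u0 + 2)) :=
      calc m * (Nat.card H * (a u0 + 2)) = 2 * b * (m1 * Nat.card X * (a u0 + 2)) := by
            rw [hmb, hH2]; ring
        _ ≤ If.card * (2 * a u0 * W0.card) := Nat.mul_le_mul hb h6
        _ = 2 * If.card * a u0 * W0.card := by ring
        _ ≤ Nat.card H * (a u0 + 2) * W0.card := Nat.mul_le_mul_right _ hbnd
        _ = _ := mul_comm _ _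
    have h8 := Nat.le_of_mul_le_mul_right h7 (Nat.mul_pos Nat.card_pos (by omega))
    omega
  -- every vector fixed by `x` is fixed by another involution
  push Not at hfreeW
  have ha4 : ∀ v ∈ W0, 4 ≤ a v := by
    intro v hv
    obtain ⟨h2, k, hk⟩ := hxa v hv
    have := hfreeW v hv
    rcases k with _ | _ | k
    · omega
    · omega
    · rw [hk]
      calc 4 = 2 ^ 2 := by norm_num
        _ ≤ _ := Nat.pow_le_pow_right (by norm_num) (by omega)
  set Xf := Finset.univ.filter fun g : M => g ∈ X
  set G' := (Finset.univ.filter fun g : M => g ∈ X ∧ g * g = 1) \ {1, z, x, z * x}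
  set JX := (Finset.univ.filter fun g : M => g ∈ X ∧ g * g = 1).card
  have hzX : z ∈ X := ⟨hzH, Subgroup.mem_centralizer_singleton_iff.2 (c.z_central x (c.HS hx)).eq.symm⟩
  have hzx : ∀ v ∈ W0, (z * x) • v ≠ v := fun v hv e => by
    simp only [W0, Finset.mem_filter, Finset.mem_univ, true_and] at hv
    rw [mul_smul, hv.2] at e
    exact hv.1 (c.z_free h hirr (mem_zpowers z) hz1 e)
  have hG'card : G'.card + 4 = JX := by
    have hx1 : x ≠ 1 := fun e => hxU (e ▸ U.one_mem)
    have hsub : ({1, z, x, z * x} : Finset M) ⊆ Finset.univ.filter fun g : M => g ∈ X ∧ g * g = 1 := by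
      intro g hg
      simp only [Finset.mem_insert, Finset.mem_singleton] at hg
      simp only [Finset.mem_filter, Finset.mem_univ, true_and]
      rcases hg with rfl | rfl | rfl | rfl
      · exact ⟨one_mem _, one_mul 1⟩
      · exact ⟨hzX, by rw [← sq, c.z_pow]⟩
      · exact ⟨hxX, by rw [← sq, hxs]⟩
      · exact ⟨X.mul_mem hzX hxX, by
          rw [← sq, (c.z_central x (c.HS hx)).symm.mul_pow, c.z_pow, hxs, one_mul]⟩
    have h4 : ({1, z, x, z * x} : Finset M).card = 4 := by
      rw [Finset.card_insert_of_notMem, Finset.card_insert_of_notMem, Finset.card_insert_of_notMem,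
        Finset.card_singleton]
      · rw [Finset.mem_singleton]; exact fun e => hz1 (mul_eq_right.1 e.symm)
      · simp only [Finset.mem_insert, Finset.mem_singleton]
        rintro (e | e)
        · exact hxU (e ▸ c.z_mem)
        · exact hx1 (left_eq_mul.1 e)
      · simp only [Finset.mem_insert, Finset.mem_singleton]
        rintro (e | e | e)
        · exact hz1 e.symm
        · exact hx1 e.symm
        · exact hxU (by rw [eq_inv_of_mul_eq_one_right e.symm]; exact U.inv_mem c.z_mem)
    have := Finset.card_sdiff_add_card_eq_card hsub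
    rw [h4] at this
    exact this
  -- the largest common fixed space
  have hA : ∀ g ∈ G', (W0.filter fun v => g • v = v).card + 1 = Nat.card (fixSub V (zpowers x ⊔ zpowers g)) ∧
      Nat.card (fixSub V (zpowers x ⊔ zpowers g)) ^ 2 ≤ u ∧
      Nat.card U ∣ Nat.card (fixSub V (zpowers x ⊔ zpowers g)) - 1 := by
    intro g hg
    simp only [G', Finset.mem_sdiff, Finset.mem_filter, Finset.mem_univ, true_and,
      Finset.mem_insert, Finset.mem_singleton, not_or] at hg
    obtain ⟨⟨hgX, hgs⟩, hg1, hgz, hgx, hgzx⟩ := hg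
    refine ⟨?_, ?_⟩
    · rw [Finset.filter_filter, show Nat.card (fixSub V (zpowers x ⊔ zpowers g)) =
        (Finset.univ.filter fun v : V => x • v = v ∧ g • v = v).card by
          rw [← Fintype.card_subtype, ← Nat.card_eq_fintype_card]
          refine Nat.card_congr (Equiv.subtypeEquivRight fun v => ⟨fun hv =>
            ⟨hv x (mem_sup_left (mem_zpowers x)), hv g (mem_sup_right (mem_zpowers g))⟩, fun hv w hw =>
            (sup_le (zpowers_le.2 (show x ∈ stabilizer M v from hv.1))
              (zpowers_le.2 (show g ∈ stabilizer M v from hv.2))) hw⟩),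
        show (Finset.univ.filter fun v : V => (v ≠ 0 ∧ x • v = v) ∧ g • v = v) =
          (Finset.univ.filter fun v : V => x • v = v ∧ g • v = v).erase 0 by ext; simp [and_assoc],
        Finset.card_erase_add_one (by simp)]
    · set A := zpowers x ⊔ zpowers g
      have hgU : g ∉ U := fun hm => by
        rcases (mem_zpowers_z c).1 (c.torsion g hm (by rw [sq]; exact hgs)) with e | e
        exacts [hg1 e, hgz e]
      have hAH : A ≤ H := sup_le (zpowers_le.2 hx) (zpowers_le.2 hgX.1)
      have hcm : Commute x g := (Subgroup.mem_centralizer_singleton_iff.1 hgX.2).symm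
      have hAmem : ∀ w ∈ A, w = 1 ∨ w = x ∨ w = g ∨ w = x * g := by
        have h2 : ∀ {q : M}, q * q = 1 → ∀ w ∈ zpowers q, w = 1 ∨ w = q := by
          intro q hq w hw
          obtain ⟨i, rfl⟩ := mem_zpowers_iff.1 hw
          rcases Int.even_or_odd' i with ⟨j, rfl | rfl⟩
          · exact Or.inl (by rw [zpow_mul]; norm_cast; rw [sq, hq, one_zpow])
          · exact Or.inr (by rw [zpow_add, zpow_mul]; norm_cast; rw [sq, hq, one_zpow, one_mul, pow_one])
        intro w hw
        have hle : zpowers g ≤ Subgroup.normalizer ((zpowers x : Subgroup M) : Set M) := by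
          rw [zpowers_le, Subgroup.mem_normalizer_iff]
          intro q
          constructor
          · intro hq
            obtain ⟨i, rfl⟩ := mem_zpowers_iff.1 hq
            rw [(hcm.symm.zpow_right i).eq, mul_inv_cancel_right]
            exact zpow_mem (mem_zpowers x) i
          · intro hq
            obtain ⟨i, hi⟩ := mem_zpowers_iff.1 hq
            have : q = x ^ i := by
              have e1 : g * q * g⁻¹ = g * x ^ i * g⁻¹ := by
                rw [(hcm.symm.zpow_right i).eq, mul_inv_cancel_right, hi]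
              exact mul_left_cancel (mul_right_cancel e1)
            rw [this]; exact zpow_mem (mem_zpowers x) i
        have hw' : w ∈ ((zpowers x ⊔ zpowers g : Subgroup M) : Set M) := hw
        rw [Subgroup.coe_mul_of_right_le_normalizer_left _ _ hle] at hw'
        obtain ⟨q, hq, r, hr, rfl⟩ := hw'
        rcases h2 (by rw [← sq]; exact hxs) q hq with rfl | rfl <;> rcases h2 hgs r hr with rfl | rfl <;> simp
      have hAU : A ⊓ U = ⊥ := (Subgroup.eq_bot_iff_forall _).2 fun w hw => by
        rcases hAmem w hw.1 with rfl | rfl | rfl | rfl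
        · rfl
        · exact absurd hw.2 hxU
        · exact absurd hw.2 hgU
        · exfalso
          rcases (mem_zpowers_z c).1 (c.torsion _ hw.2 (by rw [hcm.mul_pow, hxs, one_mul, sq, hgs])) with e | e
          · exact hgx (by
              rw [eq_inv_of_mul_eq_one_right e]
              exact inv_eq_of_mul_eq_one_right (by rw [← sq, hxs]))
          · exact hgzx (by
              rw [← e, hcm.eq, mul_assoc, ← sq, hxs, mul_one])
      have hAc : ∀ q ∈ A, ∀ r ∈ A, Commute q r := by
        intro q hq r hr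
        rcases hAmem q hq with rfl | rfl | rfl | rfl <;> rcases hAmem r hr with rfl | rfl | rfl | rfl <;>
          first
            | exact Commute.one_left _
            | exact Commute.one_right _
            | exact Commute.refl _
            | exact hcm
            | exact hcm.symm
            | exact (Commute.refl _).mul_right hcm
            | exact hcm.symm.mul_right (Commute.refl _)
            | exact (Commute.refl _).mul_left hcm.symm
            | exact hcm.mul_left (Commute.refl _)
      have htr := translates_le c h hirr hAH hAU hAc (mem_sup_left (mem_zpowers x)) hxU hxs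
      refine ⟨le_trans (Nat.pow_le_pow_right Nat.card_pos ?_) htr, card_U_dvd c h hirr hAH⟩
      obtain ⟨k, hk⟩ := IsPGroup.iff_card.1 (c.S_pgroup.to_le (hAH.trans c.HS))
      have h3 : 2 < Nat.card A := by
        rw [Nat.card_eq_fintype_card, Fintype.card_subtype]
        refine Finset.two_lt_card.2 ⟨1, ?_, x, ?_, g, ?_, ?_, ?_, ?_⟩
        · simp [A.one_mem]
        · simpa using (mem_sup_left (mem_zpowers x) : x ∈ A)
        · simpa using (mem_sup_right (mem_zpowers g) : g ∈ A)
        · exact fun e => hxU (e ▸ U.one_mem)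
        · exact fun e => hg1 e.symm
        · exact fun e => hgx e.symm
      rw [hk] at h3 ⊢
      rcases k with _ | _ | k
      · norm_num at h3
      · norm_num at h3
      · rw [pow_succ, Nat.mul_div_cancel _ (by norm_num : 0 < 2), pow_succ]
        have := Nat.two_pow_pos k
        omega
  have hG'ne : G'.Nonempty := by
    by_contra hne
    rw [Finset.not_nonempty_iff_eq_empty] at hne
    refine absurd (ha4 u0 hu0W) (not_le.2 ?_)
    have hle : H ⊓ stabilizer M u0 ≤ zpowers x := by
      intro g hg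
      have hgX : g ∈ X := ⟨hg.1, Subgroup.mem_centralizer_singleton_iff.2
        (stab_comm c h hirr hg.1 hx hu0 hg.2 hxu).eq⟩
      rcases fix_cases c h hirr hg.1 hu0 hg.2 with e | ⟨e1, e2⟩
      · exact e ▸ one_mem _
      by_contra hgx
      have : g ∈ G' := by
        simp only [G', Finset.mem_sdiff, Finset.mem_filter, Finset.mem_univ, true_and,
          Finset.mem_insert, Finset.mem_singleton, not_or]
        refine ⟨⟨hgX, e2⟩, fun e => e1 (e ▸ U.one_mem), fun e => e1 (e ▸ c.z_mem),
          fun e => hgx (e ▸ mem_zpowers x), fun e => hzx u0 hu0W (e ▸ hg.2)⟩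
      rw [hne] at this
      exact absurd this (Finset.notMem_empty _)
    refine lt_of_le_of_lt (Subgroup.card_le_of_le hle) ?_
    rw [Nat.card_zpowers]
    exact lt_of_le_of_lt (Nat.le_of_dvd two_pos (orderOf_dvd_of_pow_eq_one hxs)) (by norm_num)
  obtain ⟨g1, hg1, hmax⟩ := Finset.exists_max_image G'
    (fun g => Nat.card (fixSub V (zpowers x ⊔ zpowers g))) hG'ne
  set w0 := Nat.card (fixSub V (zpowers x ⊔ zpowers g1))
  obtain ⟨-, hw0u, hw0U⟩ := hA g1 hg1
  change w0 ^ 2 ≤ u at hw0u
  change Nat.card U ∣ w0 - 1 at hw0U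
  have hsumW : ∑ v ∈ W0, a v ≤ 2 * W0.card + G'.card * (w0 - 1) := by
    rw [← Finset.sum_congr rfl hXa, sum_card_stab X W0]
    have hsub : insert 1 (insert x G') ⊆ Xf := by
      intro g hg
      simp only [Finset.mem_insert] at hg
      simp only [Xf, Finset.mem_filter, Finset.mem_univ, true_and]
      rcases hg with rfl | rfl | hg
      · exact one_mem _
      · exact hxX
      · exact (Finset.mem_filter.1 (Finset.mem_sdiff.1 hg).1).2.1
    rw [← Finset.sum_subset hsub ?_]
    · rw [Finset.sum_insert, Finset.sum_insert, ← add_assoc, two_mul]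
      · refine Nat.add_le_add (Nat.add_le_add (Finset.card_filter_le _ _) (Finset.card_filter_le _ _)) ?_
        refine (Finset.sum_le_card_nsmul _ _ (w0 - 1) fun g hg => ?_).trans (le_of_eq (smul_eq_mul _ _))
        obtain ⟨h1, -, -⟩ := hA g hg
        have := hmax g hg
        omega
      · simp [G']
      · simp only [Finset.mem_insert, G', Finset.mem_sdiff]
        rintro (e | ⟨-, e⟩)
        · exact hxU (e.symm ▸ U.one_mem)
        · simp at e
    · intro g hgX hgn
      simp only [Xf, Finset.mem_filter, Finset.mem_univ, true_and] at hgX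
      simp only [Finset.mem_insert, not_or] at hgn
      rw [Finset.card_eq_zero, Finset.filter_eq_empty_iff]
      intro v hv hgv
      rcases fix_cases c h hirr hgX.1 (hW0ne v hv) hgv with e | ⟨e1, e2⟩
      · exact hgn.1 e
      refine hgn.2.2 ?_
      simp only [G', Finset.mem_sdiff, Finset.mem_filter, Finset.mem_univ, true_and,
        Finset.mem_insert, Finset.mem_singleton, not_or]
      exact ⟨⟨hgX, e2⟩, hgn.1, fun e => e1 (e ▸ c.z_mem), hgn.2.1, fun e => hzx v hv (e ▸ hgv)⟩
  have h4sum : 4 * W0.card ≤ ∑ v ∈ W0, a v := by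
    rw [mul_comm, ← smul_eq_mul, ← Finset.sum_const]
    exact Finset.sum_le_sum ha4
  have hmain : 2 * (u - 1) ≤ G'.card * (w0 - 1) := by omega
  -- numerical data
  have := Fact.mk h.prime
  let _ : Module (ZMod p) V := AddCommGroup.zmodModule h.exp
  have hDn : Nat.card V = p ^ Module.finrank (ZMod p) V := by
    exact card_eq_pow_finrank p V
  have hpow : ∀ A : AddSubgroup V, ∃ l, Nat.card A = p ^ l := fun A => by
    obtain ⟨l, -, hl⟩ := (Nat.dvd_prime_pow h.prime).1 (hDn ▸ A.card_addSubgroup_dvd_card)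
    exact ⟨l, hl⟩
  obtain ⟨L, hL⟩ : ∃ L, u = p ^ L := hpow _
  obtain ⟨l, hl⟩ : ∃ l, w0 = p ^ l := hpow _
  have hD : Module.finrank (ZMod p) V = 2 * L := by
    refine Nat.pow_right_injective h.prime.two_le ?_
    show p ^ _ = p ^ _
    rw [← hDn, ← hn, hL, ← pow_mul, mul_comm]
  have ht : U.relIndex H ≤ 4 * L ^ 2 := by
    refine (relIndex_le_dim c h hirr).trans (le_of_eq ?_)
    rw [hD]; ring
  have hlL : 2 * l ≤ L := by
    rw [hl, hL, ← pow_mul, Nat.pow_le_pow_iff_right h.prime.one_lt] at hw0u
    omega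
  have hp2 : p ≠ 2 := fun e => not_dvd_two c h hirr (e ▸ dvd_rfl)
  obtain ⟨e, he⟩ := relIndex_eq_two_pow c h hirr
  rcases hUcases with hU | hU
  · -- `|U| = 2`
    have hc := count_H c hU
    have hcX := count_X c hx hxU hxs hU
    have hXt : Nat.card X = U.relIndex H := by
      rw [hU] at hHt
      omega
    rw [← hHt, hU] at hc
    push_cast at hc
    set t := U.relIndex H
    obtain ⟨T, hT⟩ : ∃ T : ℕ, T * T = t := by
      refine ⟨(Jf.card - t : ℤ).natAbs, ?_⟩
      zify
      rw [abs_mul_abs_self]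
      linarith
    have hTpow : ∃ w, T = 2 ^ w := by
      obtain ⟨w, -, hw⟩ := (Nat.dvd_prime_pow Nat.prime_two).1 (he ▸ hT ▸ dvd_mul_left T T)
      exact ⟨w, hw⟩
    have ht2 : 2 ≤ t := by
      have h1 : t ≠ 1 := fun e1 => hxU (relIndex_eq_one.1 e1 hx)
      have := Nat.two_pow_pos e
      omega
    have hT2 : 2 ≤ T := by
      by_contra hlt
      interval_cases T <;> omega
    have hTL : T ≤ 2 * L := Nat.mul_self_le_mul_self_iff.1 (by
      rw [hT]; exact ht.trans (le_of_eq (by ring)))
    rw [hXt] at hcX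
    have hJX : 2 * (JX : ℤ) ≤ t + 2 * T := by
      have h1 : (2 * (JX : ℤ) - t) ^ 2 = (2 * T) ^ 2 := by
        rw [hcX, ← hT]; push_cast; ring
      rcases sq_eq_sq_iff_eq_or_eq_neg.1 h1 with e1 | e1 <;> linarith
    refine table_two h.prime hp2 hlL hTpow hT2 hTL (by rw [sq, hT, ← hL]; omega) ?_
    rw [← hL, ← hl]
    have hG : 2 * G'.card ≤ T ^ 2 + 2 * T - 8 := by
      rw [sq, hT]
      omega
    calc 4 * (u - 1) = 2 * (2 * (u - 1)) := by ring
      _ ≤ 2 * (G'.card * (w0 - 1)) := Nat.mul_le_mul_left _ hmain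
      _ = 2 * G'.card * (w0 - 1) := by ring
      _ ≤ _ := Nat.mul_le_mul_right _ hG
  · -- `|U| ≥ 4`
    have h4 := Nat.le_of_dvd (by omega) hU
    have hUX : U ≤ X := fun q hq => ⟨c.UH hq,
      Subgroup.mem_centralizer_singleton_iff.2 (c.central q hq x hx).eq.symm⟩
    have hcX := card_sq_one_mul c hUX (inf_le_left : X ≤ H)
    rw [← hH2, ← hHt] at hcX
    have hJt : JX ≤ U.relIndex H := Nat.le_of_mul_le_mul_right hcX (by omega)
    have hcH := card_sq_one_mul c c.UH (le_refl H)
    rw [← hHt, ← mul_assoc] at hcH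
    have hIt : If.card + 2 ≤ 2 * U.relIndex H := hIJ ▸ Nat.le_of_mul_le_mul_right hcH (by omega)
    have h4u : 4 ∣ u - 1 := by
      have := card_U_dvd c h hirr (zpowers_le.2 hx : zpowers x ≤ H)
      exact hU.trans this
    have hGt : G'.card ≤ U.relIndex H - 4 := by omega
    have h4t : 4 * U.relIndex H ≤ u := by
      calc 4 * U.relIndex H ≤ Nat.card U * U.relIndex H := Nat.mul_le_mul_right _ h4
        _ = Nat.card H := by rw [← hHt, mul_comm]
        _ ≤ u := huH.le
    have hXsize : 2 * U.relIndex H ≤ Nat.card X := by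
      have h9 : 4 * U.relIndex H ≤ Nat.card H := by
        rw [← hHt, mul_comm]; exact Nat.mul_le_mul_left _ h4
      omega
    have htab := table_four h.prime hp2 hlL (he ▸ ht) (he ▸ hL ▸ h4t) (hL ▸ h4u) (hl ▸ hU.trans hw0U)
      (by rw [← he, ← hL, ← hl]; exact hmain.trans (Nat.mul_le_mul_right _ hGt))
    have hSum : ∑ v ∈ W0, a v ≤ 2 * W0.card + (U.relIndex H - 4) * (w0 - 1) :=
      hsumW.trans (Nat.add_le_add_left (Nat.mul_le_mul_right _ hGt) _)
    have hexc : ∀ v ∈ W0, (orbit Y v).toFinset.card * (a v - 4) + 4 * W0.card ≤ ∑ w ∈ W0, a w := by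
      intro v hv
      obtain ⟨-, hs, hva⟩ := horbY v hv
      have h1 : ∑ w ∈ W0, (a w - 4) + 4 * W0.card = ∑ w ∈ W0, a w := by
        rw [mul_comm 4, ← smul_eq_mul, ← Finset.sum_const, ← Finset.sum_add_distrib]
        exact Finset.sum_congr rfl fun w hw => Nat.sub_add_cancel (ha4 w hw)
      rw [← h1]
      refine Nat.add_le_add_right (le_trans (le_of_eq ?_) (Finset.sum_le_sum_of_subset hs)) _
      rw [Finset.sum_congr rfl (g := fun _ => a v - 4) fun w hw => by rw [hva w hw], Finset.sum_const,
        smul_eq_mul]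
    have hdiv : ∀ a0 k, Nat.card X = a0 * k → (∀ v ∈ W0, a v ∣ a0) → k ∣ W0.card := by
      intro a0 k hk hdv
      refine dvd_card_of_orbits X W0 (fun g hg v hv => hYW g (hXY hg) v hv) fun v hv => ?_
      obtain ⟨q, hq⟩ := hdv v hv
      have h1 : (orbit X v).ncard * a v = Nat.card X := by
        rw [← index_stabilizer, ← hXa v hv, ← card_mul_index (stabilizer X v), mul_comm]
        congr 1
        exact Nat.card_congr
          { toFun := fun g => ⟨⟨g.1, g.2.1⟩, g.2.2⟩
            invFun := fun g => ⟨g.1.1, g.1.2, g.2⟩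
            left_inv := fun g => rfl
            right_inv := fun g => rfl }
      rw [hk, hq] at h1
      refine ⟨q, Nat.eq_of_mul_eq_mul_right (ha1 v) (h1.trans ?_)⟩
      ring
    have hXdvd : 2 * U.relIndex H ∣ Nat.card X := by
      obtain ⟨q, hq⟩ := hU
      refine ⟨q, ?_⟩
      have : U.relIndex H * (4 * q) = 2 * Nat.card X := by rw [← hq, hHt, hH2]
      refine Nat.eq_of_mul_eq_mul_left two_pos (this.symm.trans ?_)
      ring
    have ha2 : ∀ v ∈ W0, a v * a v ≤ U.relIndex H := by
      intro v hv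
      have h1 := stab_bound c h hirr (hW0ne v hv)
      rw [← hHt, ← mul_assoc] at h1
      exact Nat.le_of_mul_le_mul_right h1 (by omega)
    obtain ⟨q, hq⟩ := hXdvd
    rcases htab with ⟨hp5, hL4, hl2, ht64⟩ | ⟨hp3, hL8, hl4, ht256⟩
    · rw [← he] at ht64
      rw [hp5, hL4] at hL
      rw [hp5, hl2] at hl
      rw [ht64] at hSum hIt hq hXsize ha2
      norm_num at hL hl
      rw [hl] at hSum
      have hle4 : ∀ v ∈ W0, a v ∣ 4 := by
        intro v hv
        obtain ⟨-, k, hk⟩ := hxa v hv
        have h2 := ha2 v hv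
        have h4v := ha4 v hv
        rw [hk] at h2 h4v ⊢
        have hk3 := num_two_pow_le 4 h2 (by norm_num)
        obtain rfl | rfl : k = 2 ∨ k = 3 := by
          rcases k with _ | _ | _ | _ | k
          · norm_num at h4v
          · norm_num at h4v
          · exact Or.inl rfl
          · exact Or.inr rfl
          · omega
        · norm_num
        -- `a v = 8`
        exfalso
        have e1 := (horbY v hv).1
        have e2 := hexc v hv
        rw [hk] at e1 e2
        rw [show (2 : ℕ) ^ 3 = 4 + 4 by norm_num] at e1 e2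
        rw [Nat.add_sub_cancel] at e2
        have := num_orbit_cap (d := 4) e1 e2 hSum hXsize hb hmb
        rw [show W0.card = 624 by omega] at this
        norm_num at this
        omega
      have := hdiv 4 (32 * q) (by rw [hq]; ring) hle4
      have h32 : 32 ∣ W0.card := (dvd_mul_right 32 q).trans this
      omega
    · rw [← he] at ht256
      rw [hp3, hL8] at hL
      rw [hp3, hl4] at hl
      rw [ht256] at hSum hIt hq hXsize ha2
      norm_num at hL hl
      rw [hl] at hSum
      have hle8 : ∀ v ∈ W0, a v ∣ 8 := by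
        intro v hv
        obtain ⟨-, k, hk⟩ := hxa v hv
        have h2 := ha2 v hv
        have h4v := ha4 v hv
        rw [hk] at h2 h4v ⊢
        have hk4 := num_two_pow_le 5 h2 (by norm_num)
        obtain rfl | rfl | rfl : k = 2 ∨ k = 3 ∨ k = 4 := by
          rcases k with _ | _ | _ | _ | _ | k
          · norm_num at h4v
          · norm_num at h4v
          · exact Or.inl rfl
          · exact Or.inr (Or.inl rfl)
          · exact Or.inr (Or.inr rfl)
          · omega
        · norm_num
        · norm_num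
        -- `a v = 16`
        exfalso
        have e1 := (horbY v hv).1
        have e2 := hexc v hv
        rw [hk] at e1 e2
        rw [show (2 : ℕ) ^ 4 = 12 + 4 by norm_num] at e1 e2
        rw [Nat.add_sub_cancel] at e2
        have := num_orbit_cap (d := 12) e1 e2 hSum hXsize hb hmb
        rw [show W0.card = 6560 by omega] at this
        norm_num at this
        omega
      have := hdiv 8 (64 * q) (by rw [hq]; ring) hle8
      have h64 : 64 ∣ W0.card := (dvd_mul_right 64 q).trans this
      omega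

end

end CfsgLib.DerangeExact
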