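import Cfsg.Agent.Lib.DerangeExact.Abelian
import Cfsg.Agent.Lib.DerangeExact.Odd
import Cfsg.Agent.Lib.DerangeExact.Two
import Cfsg.Agent.Lib.DerangeIndex.Lin.Main

/-!
The exact linear theorem: `(m + 1) ^ 2 ≤ n` when some element of `K0` fixes a non-zero vector.
-/

set_option autoImplicit false
set_option linter.unusedSectionVars false

open MulAction Subgroup
open scoped commutatorElement

namespace CfsgLib.DerangeExact

open CfsgLib.DerangeIndex

theorem sq_of_pow {n m w : ℕ} (hw : 2 ≤ w) (hm : m + 1 ≤ w) {s : ℕ} (hs : 2 ≤ s)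
    (h : w ^ s ≤ n) : (m + 1) ^ 2 ≤ n :=
  le_trans (Nat.pow_le_pow_left hm 2) (le_trans (Nat.pow_le_pow_right (by omega) hs) h)

variable {M : Type*} [Group M]

section Two

variable {K0 S H U : Subgroup M} {z : M} (c : SympCtx 2 K0 S H U z) [Finite M]
  {V : Type*} [AddCommGroup V] [DistribMulAction M V] [Finite V] [Nontrivial V] {p : ℕ}
  (h : Setup V p K0) (hirr : Irred M V)
include c h hirr

/-- The case of an involution of `H` centralizing no other one with a common fixed vector. -/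
theorem sq_of_no_pair {x : M} (hx : x ∈ H) (hxU : x ∉ U) (hxs : x ^ 2 = 1)
    (hno : ∀ v : V, v ≠ 0 → x • v = v → ∀ y ∈ H, Commute x y → y • v = v → y ∈ zpowers x) :
    (K0.index + 1) ^ 2 ≤ Nat.card V := by
  classical
  have := Fintype.ofFinite M
  obtain ⟨g0, hg0, hg0x⟩ := c.exists_conj hx hxU (mem_zpowers z)
  have hz1 : z ≠ 1 := fun e => by
    have h3 := c.z_order
    rw [e, orderOf_one] at h3
    omega
  have hzH : z ∈ H := c.UH c.z_mem
  obtain ⟨hW, hcard⟩ := c.translates h hirr (c.HS hx) hxs (c.HS hg0) (mem_zpowers z) hz1 hg0x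
  set W := fixSub V (zpowers x)
  obtain ⟨⟨u, hu⟩, hu0⟩ := (AddSubgroup.ne_bot_iff_exists_ne_zero).1 hW
  have hu0' : u ≠ 0 := fun e => hu0 (Subtype.ext e)
  set X := H ⊓ centralizer {x}
  have hxX : x ∈ X := ⟨hx, Subgroup.mem_centralizer_singleton_iff.2 rfl⟩
  have hzX : z ∈ X := ⟨hzH, Subgroup.mem_centralizer_singleton_iff.2 (c.z_central x (c.HS hx)).eq.symm⟩
  -- the orbit bound
  have hXW : ∀ g ∈ centralizer ({x} : Set M), ∀ v ∈ W, g • v ∈ W := fun g hg v hv =>
    fixSub_zpowers.2 (by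
      rw [smul_smul, ← Subgroup.mem_centralizer_singleton_iff.1 hg, mul_smul, fixSub_zpowers.1 hv])
  have hrel := h.relIndex_mul_card_le (Y := centralizer {x}) (X := X) inf_le_right
    (inf_le_left.trans (c.HS.trans c.S_le)) (U := W) hXW hu hu0'
  have hXu : Nat.card (X ⊓ stabilizer M u : Subgroup M) ≤ 2 := by
    have hle : X ⊓ stabilizer M u ≤ zpowers x := fun y hy => hno u hu0' (fixSub_zpowers.1 hu) y
      hy.1.1 (Subgroup.mem_centralizer_singleton_iff.1 hy.1.2).symm hy.2
    refine (Subgroup.card_le_of_le hle).trans ?_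
    rw [Nat.card_zpowers]
    exact Nat.le_of_dvd two_pos (orderOf_dvd_of_pow_eq_one hxs)
  -- the involutions
  set I0 : Finset M := Finset.univ.filter fun y => y ∈ H ∧ y ∉ U ∧ y ^ 2 = 1
  set P : M → Finset M := fun y => {y, z * y}
  set T : Finset (Finset M) := I0.image P
  have hT : 2 * T.card ≤ I0.card := by
    refine Finset.mul_card_image_le_card I0 2 fun a ha => ?_
    obtain ⟨y, hy, rfl⟩ := Finset.mem_image.1 ha
    rw [Finset.mem_filter] at hy
    refine Finset.one_lt_card.2 ⟨y, Finset.mem_filter.2 ⟨Finset.mem_filter.2 hy, rfl⟩, z * y,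
      Finset.mem_filter.2 ⟨Finset.mem_filter.2 ⟨Finset.mem_univ _, H.mul_mem hzH hy.2.1,
        fun hm => hy.2.2.1 ?_, ?_⟩, ?_⟩, fun e => hz1 (mul_eq_right.1 e.symm)⟩
    · have := U.mul_mem (U.inv_mem c.z_mem) hm
      rwa [inv_mul_cancel_left] at this
    · rw [(c.z_central y (c.HS hy.2.1)).symm.mul_pow, hy.2.2.2, c.z_pow, mul_one]
    · simp only [P, ← mul_assoc, ← sq, c.z_pow, one_mul]
      exact Finset.pair_comm _ _
  have hidx : (centralizer {x} ⊔ K0).index ≤ T.card := by
    rw [← Set.ncard_coe_finset]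
    refine h.index_sup_le _ (Finset.finite_toSet _) (fun g => P (g * x * g⁻¹)) (fun g => ?_) ?_
    · exact Finset.mem_image_of_mem _ (Finset.mem_filter.2 ⟨Finset.mem_univ _, c.conj_mem_H hx,
        c.conj_not_mem_U hxU, by rw [conj_pow, hxs, mul_one, mul_inv_cancel]⟩)
    · intro g g' he
      have hmem : g' * x * g'⁻¹ ∈ P (g * x * g⁻¹) := he ▸ Finset.mem_insert_self _ _
      simp only [P, Finset.mem_insert, Finset.mem_singleton] at hmem
      have hcm : (g * x * g⁻¹)⁻¹ * (g' * x * g'⁻¹) ∈ U := by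
        rcases hmem with e | e <;> rw [e]
        · rw [inv_mul_cancel]; exact U.one_mem
        · rw [← mul_assoc, ← (c.z_central _ (S.inv_mem (c.HS (c.conj_mem_H hx)))).eq.symm,
            inv_mul_cancel_right]
          exact c.z_mem
      obtain ⟨-, -, -, t, ht, htx⟩ := c.coset_conj hx hxU hxs hcm
      refine ⟨t, c.S_le (c.HS ht), ?_⟩
      rw [Subgroup.mem_centralizer_singleton_iff]
      calc g'⁻¹ * t * g * x = g'⁻¹ * (t * (g * x * g⁻¹) * t⁻¹) * (t * g) := by group
        _ = g'⁻¹ * (g' * x * g'⁻¹) * (t * g) := by rw [htx]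
        _ = x * (g'⁻¹ * t * g) := by group
  -- counting
  set Hf : Finset M := Finset.univ.filter fun y => y ∈ H
  set Xf : Finset M := Finset.univ.filter fun y => y ∈ X
  have hXf : Xf.card = Nat.card X := by rw [Nat.card_eq_fintype_card, Fintype.card_subtype]
  have hout : ∀ y ∈ H, y ∉ X → y * x * y⁻¹ = z * x := by
    intro y hy hyX
    refine (c.conj_cases hy hx).resolve_left fun e => hyX ⟨hy, ?_⟩
    show y ∈ centralizer {x}
    rw [Subgroup.mem_centralizer_singleton_iff, ← mul_inv_eq_iff_eq_mul, e]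
  have hdiff : (Hf.filter (· ∉ X)).card ≤ Xf.card := by
    refine Finset.card_le_card_of_injOn (g0 * ·) (fun y hy => ?_) (fun a _ b _ e => mul_left_cancel e)
    simp only [Finset.coe_filter, Finset.mem_filter, Hf, Xf, Finset.mem_univ, true_and,
      Set.mem_ofPred_eq] at hy ⊢
    refine ⟨H.mul_mem hg0 hy.1, ?_⟩
    show g0 * y ∈ centralizer {x}
    rw [Subgroup.mem_centralizer_singleton_iff, ← mul_inv_eq_iff_eq_mul,
      show g0 * y * x * (g0 * y)⁻¹ = g0 * (y * x * y⁻¹) * g0⁻¹ by group, hout y hy.1 hy.2, ← conj_mul,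
      hg0x, (c.z_central g0 (c.HS hg0)).eq, mul_inv_cancel_right, ← mul_assoc, ← sq, c.z_pow, one_mul]
  have hin : (I0.filter (· ∈ X)).card ≤ 2 := by
    refine (Finset.card_le_card (t := ({x, z * x} : Finset M)) fun y hy => ?_).trans Finset.card_le_two
    simp only [Finset.mem_filter, I0, Finset.mem_univ, true_and] at hy
    obtain ⟨⟨hyH, hyU, hys⟩, hyX⟩ := hy
    rw [Finset.mem_insert, Finset.mem_singleton]
    by_contra hne
    push Not at hne
    have hcy := Subgroup.mem_centralizer_singleton_iff.1 hyX.2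
    have hnotx : ∀ w : M, w ∈ zpowers x → w = 1 ∨ w = x := by
      intro w hw
      obtain ⟨i, rfl⟩ := mem_zpowers_iff.1 hw
      rcases Int.even_or_odd' i with ⟨j, rfl | rfl⟩
      · exact Or.inl (by rw [zpow_mul]; norm_cast; rw [hxs, one_zpow])
      · exact Or.inr (by rw [zpow_add, zpow_mul]; norm_cast; rw [hxs, one_zpow, one_mul, pow_one])
    -- `y` inverts `u`, hence `z * y` fixes it
    have hyu : y • u = -u := by
      by_contra hyu
      have hfix : y • (u + y • u) = u + y • u := by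
        rw [smul_add, smul_smul, ← sq, hys, one_smul, add_comm]
      have hne0 : u + y • u ≠ 0 := fun e => hyu (eq_neg_of_add_eq_zero_right e)
      rcases hnotx y (hno _ hne0 (fixSub_zpowers.1 (W.add_mem hu (hXW y hyX.2 u hu))) y hyH hcy.symm
        hfix) with e | e
      · exact hyU (e ▸ U.one_mem)
      · exact hne.1 e
    have hzu : z • u = -u := by
      by_contra hzu
      have hfix : z • (u + z • u) = u + z • u := by
        rw [smul_add, smul_smul, ← sq, c.z_pow, one_smul, add_comm]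
      exact (fun e => hzu (eq_neg_of_add_eq_zero_right e)) (c.z_free h hirr (mem_zpowers z) hz1 hfix)
    have hzy : z * y ∈ zpowers x := hno u hu0' (fixSub_zpowers.1 hu) _ (H.mul_mem hzH hyH)
      ((c.z_central x (c.HS hx)).mul_right hcy.symm)
      (by rw [mul_smul, hyu, smul_neg, hzu, neg_neg])
    rcases hnotx _ hzy with e | e
    · exact hyU (by rw [eq_inv_of_mul_eq_one_right e]; exact U.inv_mem c.z_mem)
    · refine hne.2 ?_
      rw [← e, ← mul_assoc, ← sq, c.z_pow, one_mul]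
  have hinj : 2 * (I0.filter (· ∉ X)).card ≤ (Hf.filter (· ∉ X)).card := by
    set A := I0.filter (· ∉ X)
    have hA : ∀ y ∈ A, y ∈ H ∧ y ∉ X ∧ y ^ 2 = 1 := fun y hy => by
      simp only [A, I0, Finset.mem_filter, Finset.mem_univ, true_and] at hy
      exact ⟨hy.1.1, hy.2, hy.1.2.2⟩
    have hdis : Disjoint A (A.image (· * x)) := by
      rw [Finset.disjoint_left]
      intro w hw hw'
      obtain ⟨y, hy, rfl⟩ := Finset.mem_image.1 hw'
      obtain ⟨hyH, hyX, hys⟩ := hA y hy
      have h2 := (hA _ hw).2.2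
      refine hz1 ?_
      have h3 : (y * x) ^ 2 = y * x * y⁻¹ * y ^ 2 * x := by simp only [sq, mul_assoc, inv_mul_cancel_left]
      rw [h2, hys, mul_one, hout y hyH hyX, mul_assoc, ← sq, hxs, mul_one] at h3
      exact h3.symm
    calc 2 * A.card = (A ∪ A.image (· * x)).card := by
          rw [Finset.card_union_of_disjoint hdis, Finset.card_image_of_injective _ (mul_left_injective x),
            two_mul]
      _ ≤ _ := Finset.card_le_card (Finset.union_subset (fun y hy => by
          obtain ⟨h1, h2, -⟩ := hA y hy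
          simp [Hf, h1, h2]) fun w hw => by
          obtain ⟨y, hy, rfl⟩ := Finset.mem_image.1 hw
          obtain ⟨h1, h2, -⟩ := hA y hy
          simp only [Hf, Finset.mem_filter, Finset.mem_univ, true_and]
          exact ⟨H.mul_mem h1 hx, fun hm => h2 ((X.mul_mem_cancel_right hxX).1 hm)⟩)
  have h4 : 4 ≤ Xf.card := by
    have hxz : x ≠ z := fun e => hxU (e ▸ c.z_mem)
    have hx1 : x ≠ 1 := fun e => hxU (e ▸ U.one_mem)
    have hzx : z * x ≠ 1 := fun e => hxU (by rw [eq_inv_of_mul_eq_one_right e]; exact U.inv_mem c.z_mem)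
    have hsub : ({1, z, x, z * x} : Finset M) ⊆ Xf := by
      intro w hw
      simp only [Finset.mem_insert, Finset.mem_singleton] at hw
      rcases hw with rfl | rfl | rfl | rfl <;> simp [Xf, X.one_mem, hzX, hxX, X.mul_mem hzX hxX]
    refine le_trans (le_of_eq (?_ : 4 = _)) (Finset.card_le_card hsub)
    rw [Finset.card_insert_of_notMem, Finset.card_insert_of_notMem, Finset.card_insert_of_notMem,
      Finset.card_singleton]
    · rw [Finset.mem_singleton]; exact fun e => hz1 (mul_eq_right.1 e.symm)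
    · simp only [Finset.mem_insert, Finset.mem_singleton]
      rintro (e | e)
      · exact hxz e.symm
      · exact hx1 (left_eq_mul.1 e)
    · simp only [Finset.mem_insert, Finset.mem_singleton]
      rintro (e | e | e)
      · exact hz1 e.symm
      · exact hx1 e.symm
      · exact hzx e.symm
  have hI : I0.card = (I0.filter (· ∈ X)).card + (I0.filter (· ∉ X)).card :=
    (Finset.card_filter_add_card_filter_not _).symm
  refine sq_of_pow ?_ ?_ le_rfl hcard
  · have : Nontrivial W := ⟨⟨u, hu⟩, 0, hu0⟩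
    exact Finite.one_lt_card
  · have he : 2 * (centralizer {x} ⊔ K0).index ≤ Nat.card X := by omega
    have hW1 : 1 ≤ Nat.card W := Nat.card_pos
    suffices hm : K0.index * Nat.card X ≤ (Nat.card W - 1) * Nat.card X by
      have := Nat.le_of_mul_le_mul_right hm Nat.card_pos
      omega
    rw [h.index_split (centralizer {x}), mul_assoc]
    calc (centralizer {x} ⊔ K0).index * (K0.relIndex (centralizer {x}) * Nat.card X)
        ≤ (centralizer {x} ⊔ K0).index * ((Nat.card W - 1) * 2) :=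
          Nat.mul_le_mul_left _ (hrel.trans (Nat.mul_le_mul_left _ hXu))
      _ = (Nat.card W - 1) * (2 * (centralizer {x} ⊔ K0).index) := by ring
      _ ≤ _ := Nat.mul_le_mul_left _ he


end Two

section Cyclic

variable {s : ℕ} {K0 S H U : Subgroup M} {z : M} (c : SympCtx s K0 S H U z) [Finite M]
  {V : Type*} [AddCommGroup V] [DistribMulAction M V] [Finite V] [Nontrivial V] {p : ℕ}
  (h : Setup V p K0) (hirr : Irred M V)
include c h hirr

/-- The case `H = U`. -/
theorem sq_of_outer (hHU : H = U) {x : M} (hx : x ∈ S) (hxU : x ∉ U) (hxs : x ^ s = 1) :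
    (K0.index + 1) ^ 2 ≤ Nat.card V := by
  classical
  have hUn := c.U_normal
  have hUcomm : ∀ a ∈ U, ∀ b ∈ U, Commute a b := fun a ha b hb => c.central b hb a (hHU ▸ ha)
  -- the conjugates of `x` lie in `U * x`
  have hconjU : ∀ g : M, g * x * g⁻¹ * x⁻¹ ∈ U := by
    intro g
    refine c.cent _ (S.mul_mem (c.S_normal.conj_mem x hx g) (S.inv_mem hx)) fun u hu => ?_
    rw [hHU] at hu
    have := c.cyclic
    obtain ⟨r, hr⟩ := MonoidHom.map_cyclic (G := U)
      ({ toFun := fun w => ⟨x⁻¹ * (w : M) * x, by simpa using hUn.conj_mem _ w.2 x⁻¹⟩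
         map_one' := Subtype.ext (by simp)
         map_mul' := fun a b => Subtype.ext (by simp [mul_assoc]) } : U →* U)
    have hr' : ∀ w ∈ U, x⁻¹ * w * x = w ^ r := fun w hw => congrArg Subtype.val (hr ⟨w, hw⟩)
    have h1 : g⁻¹ * u * g ∈ U := by simpa using hUn.conj_mem _ hu g⁻¹
    have hgu : (g * x * g⁻¹)⁻¹ * u * (g * x * g⁻¹) = x⁻¹ * u * x := by
      rw [show (g * x * g⁻¹)⁻¹ * u * (g * x * g⁻¹) = g * (x⁻¹ * (g⁻¹ * u * g) * x) * g⁻¹ by group,
        hr' _ h1, hr' _ hu, ← conj_zpow]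
      group
    calc u * (g * x * g⁻¹ * x⁻¹)
        = g * x * g⁻¹ * ((g * x * g⁻¹)⁻¹ * u * (g * x * g⁻¹)) * x⁻¹ := by group
      _ = g * x * g⁻¹ * x⁻¹ * u := by rw [hgu]; group
  let φ : U →* U :=
    { toFun := fun w => ⟨x * (w : M) * x⁻¹ * (w : M)⁻¹, U.mul_mem (hUn.conj_mem _ w.2 x) (U.inv_mem w.2)⟩
      map_one' := Subtype.ext (by simp)
      map_mul' := fun a b => Subtype.ext (by
        show x * ((a : M) * b) * x⁻¹ * ((a : M) * b)⁻¹ =
          x * a * x⁻¹ * (a : M)⁻¹ * (x * b * x⁻¹ * (b : M)⁻¹)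
        have h1 := (hUcomm _ (U.inv_mem a.2) _ (U.mul_mem (hUn.conj_mem _ b.2 x) (U.inv_mem b.2))).eq
        rw [mul_assoc _ (a : M)⁻¹, h1]
        group) }
  have hφ : ∀ w : U, (φ w : M) = x * (w : M) * x⁻¹ * (w : M)⁻¹ := fun w => rfl
  -- a translate
  obtain ⟨w0, hw0⟩ : ∃ w0 : U, φ w0 ≠ 1 := by
    by_contra hcon
    push Not at hcon
    refine hxU (c.cent x hx fun k hk => ?_)
    rw [hHU] at hk
    have h1 := congrArg Subtype.val (hcon ⟨k, hk⟩)
    rw [hφ, OneMemClass.coe_one, mul_inv_eq_one, mul_inv_eq_iff_eq_mul] at h1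
    exact h1.symm
  obtain ⟨a, hazp, ha1, g0, hg0⟩ : ∃ a ∈ zpowers z, a ≠ 1 ∧ ∃ g0 ∈ U, g0 * x * g0⁻¹ = a * x := by
    have := Fact.mk c.prime
    obtain ⟨k, hk⟩ := IsPGroup.iff_orderOf.1 c.S_pgroup ⟨(φ w0 : M), c.HS (c.UH (φ w0).2)⟩
    rw [orderOf_mk, orderOf_coe] at hk
    obtain ⟨j, rfl⟩ : ∃ j, k = j + 1 := Nat.exists_eq_succ_of_ne_zero (by
      rintro rfl
      exact hw0 (orderOf_eq_one_iff.1 (by rw [hk, pow_zero])))
    refine ⟨((φ w0 ^ s ^ j : U) : M), c.torsion _ (φ w0 ^ s ^ j : U).2 ?_, ?_, (((w0 ^ s ^ j)⁻¹ : U) : M),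
      ((w0 ^ s ^ j)⁻¹ : U).2, ?_⟩
    · rw [← Subgroup.coe_pow, ← pow_mul, ← pow_succ, ← hk, pow_orderOf_eq_one, OneMemClass.coe_one]
    · intro he
      have h1 := Nat.le_of_dvd (pow_pos c.prime.pos j)
        (orderOf_dvd_of_pow_eq_one (Subtype.ext he : φ w0 ^ s ^ j = 1))
      rw [hk] at h1
      exact absurd ((Nat.pow_le_pow_iff_right c.prime.one_lt).1 h1) (by omega)
    · have key : ∀ v ∈ U, v⁻¹ * x * v⁻¹⁻¹ = x * v * x⁻¹ * v⁻¹ * x := fun v hv => by
        rw [(hUcomm _ (hUn.conj_mem _ hv x) _ (U.inv_mem hv)).eq]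
        group
      rw [← map_pow, hφ, Subgroup.coe_inv]
      exact key _ (w0 ^ s ^ j : U).2
  obtain ⟨hW, hcard⟩ := c.translates h hirr hx hxs (c.HS (c.UH hg0.1)) hazp ha1 hg0.2
  set W := fixSub V (zpowers x)
  obtain ⟨⟨u, hu⟩, hu0⟩ := (AddSubgroup.ne_bot_iff_exists_ne_zero).1 hW
  have hu0' : u ≠ 0 := fun e => hu0 (Subtype.ext e)
  set X := U ⊓ centralizer {x}
  have hrel := h.relIndex_mul_card_le (Y := centralizer {x}) (X := X) inf_le_right
    (inf_le_left.trans ((c.UH.trans c.HS).trans c.S_le)) (U := W) (fun g hg v hv =>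
      fixSub_zpowers.2 (by
        rw [smul_smul, ← Subgroup.mem_centralizer_singleton_iff.1 hg, mul_smul, fixSub_zpowers.1 hv]))
    hu hu0'
  rw [show X ⊓ stabilizer M u = ⊥ from (Subgroup.eq_bot_iff_forall _).2 fun y hy => by_contra fun hy1 =>
    hu0' (c.U_free h hirr hy.1.1 hy1 hy.2), Subgroup.card_bot, mul_one] at hrel
  have hker : Nat.card φ.ker = Nat.card X := Nat.card_congr
    { toFun := fun w => ⟨((w : U) : M), (w : U).2, by
        have h1 := congrArg Subtype.val (MonoidHom.mem_ker.1 w.2)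
        rw [hφ, OneMemClass.coe_one, mul_inv_eq_one, mul_inv_eq_iff_eq_mul] at h1
        exact Subgroup.mem_centralizer_singleton_iff.2 h1.symm⟩
      invFun := fun w => ⟨⟨w.1, w.2.1⟩, MonoidHom.mem_ker.2 (Subtype.ext (by
        show x * (w : M) * x⁻¹ * (w : M)⁻¹ = 1
        rw [← Subgroup.mem_centralizer_singleton_iff.1 w.2.2]; group))⟩
      left_inv := fun w => rfl
      right_inv := fun w => rfl }
  have hidx : (centralizer {x} ⊔ K0).index ≤ Nat.card X := by
    rw [← hker, ← Subgroup.index_range]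
    have h1 := h.index_sup_le (Y := centralizer {x}) (Set.univ : Set (U ⧸ φ.range)) (Set.toFinite _)
      (fun g => ((⟨g * x * g⁻¹ * x⁻¹, hconjU g⟩ : U) : U ⧸ φ.range)) (fun g => trivial) ?_
    · rwa [Set.ncard_univ] at h1
    · intro g g' he
      rw [QuotientGroup.eq] at he
      obtain ⟨w, hw⟩ := he
      have hw' := congrArg Subtype.val hw
      rw [hφ, Subgroup.coe_mul, Subgroup.coe_inv] at hw'
      set v : M := (w : M)
      have hv : v ∈ U := w.2
      refine ⟨v⁻¹, c.S_le (c.HS (c.UH (U.inv_mem hv))), ?_⟩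
      rw [Subgroup.mem_centralizer_singleton_iff]
      have key : v⁻¹ * (g * x * g⁻¹) * v = g' * x * g'⁻¹ := by
        have h2 : (g * x * g⁻¹ * x⁻¹) * (v⁻¹ * (x * v * x⁻¹)) = g' * x * g'⁻¹ * x⁻¹ := by
          rw [(hUcomm _ (U.inv_mem hv) _ (hUn.conj_mem _ hv x)).eq, hw']; group
        have h3 := (hUcomm _ (hconjU g) _ (U.inv_mem hv)).eq
        calc v⁻¹ * (g * x * g⁻¹) * v = v⁻¹ * (g * x * g⁻¹ * x⁻¹) * (x * v) := by group
          _ = g * x * g⁻¹ * x⁻¹ * (v⁻¹ * (x * v * x⁻¹)) * x := by rw [← h3]; group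
          _ = g' * x * g'⁻¹ := by rw [h2]; group
      calc g'⁻¹ * v⁻¹ * g * x = g'⁻¹ * (v⁻¹ * (g * x * g⁻¹) * v) * (v⁻¹ * g) := by group
        _ = g'⁻¹ * (g' * x * g'⁻¹) * (v⁻¹ * g) := by rw [key]
        _ = x * (g'⁻¹ * v⁻¹ * g) := by group
  have hW1 : 1 ≤ Nat.card W := Nat.card_pos
  refine sq_of_pow ?_ ?_ c.prime.two_le hcard
  · have : Nontrivial W := ⟨⟨u, hu⟩, 0, hu0⟩
    exact Finite.one_lt_card
  · rw [h.index_split (centralizer {x})]
    have h2 : (centralizer {x} ⊔ K0).index * K0.relIndex (centralizer {x}) ≤ Nat.card W - 1 :=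
      (Nat.mul_le_mul_right _ hidx).trans ((mul_comm _ _).le.trans hrel)
    omega


end Cyclic

variable [Finite M] {V : Type*} [AddCommGroup V] [DistribMulAction M V]
  [Finite V] [Nontrivial V] {p : ℕ} {K0 : Subgroup M}

  [Finite V] [Nontrivial V] {p : ℕ} {K0 : Subgroup M}

/-- The case of a normal `s`-subgroup of symplectic type containing an element with a fixed vector. -/
theorem sq_of_ctx {s : ℕ} {S H U : Subgroup M} {z : M} (c : SympCtx s K0 S H U z)
    (h : Setup V p K0) (hirr : Irred M V) {E : Subgroup M} (hEH : E ≤ H) (hsup : H ≤ E ⊔ U)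
    (hE : ∀ e ∈ E, (e ^ s) ^ s = 1)
    (hES : ∀ g ∈ S, ∃ e ∈ E, ∀ f ∈ E, Commute (e * g) f)
    {k : M} (hk : k ∈ S) (hks : k ^ s = 1) (hk1 : k ≠ 1) {v : V} (hv : v ≠ 0) (hkv : k • v = v) :
    (K0.index + 1) ^ 2 ≤ Nat.card V := by
  classical
  have hkU : k ∉ U := fun hm => hv (c.U_free h hirr hm hk1 hkv)
  by_cases hα : ∃ x ∈ H, x ∉ U ∧ x ^ s = 1
  · obtain ⟨x, hx, hxU, hxs⟩ := hα
    rcases eq_or_lt_of_le c.prime.two_le with h2 | h3
    · subst h2
      by_cases hp : ∃ u : V, u ≠ 0 ∧ x • u = u ∧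
          ∃ y ∈ H, Commute x y ∧ y • u = u ∧ y ∉ zpowers x
      · obtain ⟨u, hu, hxu, y, hy, hxy, hyu, hyx⟩ := hp
        exact sq_of_pair c h hirr hx hy hxU hxs hxy hyx hu hxu hyu
      · exact sq_of_no_pair c h hirr hx hxU hxs fun u hu hxu y hy hxy hyu =>
          by_contra fun hne => hp ⟨u, hu, hxu, y, hy, hxy, hyu, hne⟩
    · exact sq_of_inner_odd c h hirr hx hxU hxs h3
  push Not at hα
  suffices hHU : H ≤ U from sq_of_outer c h hirr (le_antisymm hHU c.UH) hk hkU hks
  by_contra hHU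
  obtain ⟨e, he, heU⟩ : ∃ e ∈ E, e ∉ U := by
    by_contra hcon
    push Not at hcon
    exact hHU (hsup.trans (sup_le hcon le_rfl))
  have hez : ∀ f ∈ E, f ^ s ∈ zpowers z := fun f hf =>
    c.torsion _ (c.pow_mem_U f (hEH hf)) (hE f hf)
  have hes : e ^ s ≠ 1 := hα e (hEH he) heU
  rcases eq_or_lt_of_le c.prime.two_le with h2 | h3
  · subst h2
    have hEz : e ^ 2 = z := (c.eq_or_eq_two (hez e he)).resolve_left hes
    have hUz : U ≤ zpowers z := by
      intro u hu
      by_contra huz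
      obtain ⟨j, hj⟩ := IsPGroup.iff_orderOf.1 c.S_pgroup ⟨u, c.HS (c.UH hu)⟩
      rw [orderOf_mk] at hj
      have hj2 : 2 ≤ j := by
        by_contra hlt
        refine huz (c.torsion u hu ?_)
        rw [← orderOf_dvd_iff_pow_eq_one, hj]
        exact (pow_dvd_pow 2 (show j ≤ 1 by omega)).trans (by rw [pow_one])
      obtain ⟨l, rfl⟩ : ∃ l, j = l + 2 := ⟨j - 2, by omega⟩
      have hi : (u ^ 2 ^ l) ^ 2 ≠ 1 := fun h' => by
        rw [← pow_mul, ← pow_succ] at h'
        have h1 := Nat.le_of_dvd (pow_pos two_pos _) (orderOf_dvd_of_pow_eq_one h')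
        rw [hj] at h1
        exact absurd ((Nat.pow_le_pow_iff_right one_lt_two).1 h1) (by omega)
      have hi2 : (u ^ 2 ^ l) ^ 2 = z := by
        refine (c.eq_or_eq_two (c.torsion _ (U.pow_mem (U.pow_mem hu _) _) ?_)).resolve_left hi
        rw [← pow_mul, ← pow_mul, show 2 ^ l * (2 * 2) = 2 ^ (l + 2) by ring, ← hj, pow_orderOf_eq_one]
      refine hα (e * u ^ 2 ^ l) (H.mul_mem (hEH he) (c.UH (U.pow_mem hu _))) (fun hm => heU ?_) ?_
      · have := U.mul_mem hm (U.inv_mem (U.pow_mem hu (2 ^ l)))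
        rwa [mul_inv_cancel_right] at this
      · rw [(c.central _ (U.pow_mem hu _) e (hEH he)).mul_pow, hEz, hi2, ← sq, c.z_pow]
    have hSH : S ≤ H := by
      intro g hg
      obtain ⟨f, hf, hfg⟩ := hES g hg
      have hfgS : f * g ∈ S := S.mul_mem (c.HS (hEH hf)) hg
      have hU' : f * g ∈ U := c.cent _ hfgS fun w hw => by
        have hle : E ⊔ U ≤ centralizer {f * g} := by
          refine sup_le (fun a ha => Subgroup.mem_centralizer_singleton_iff.2 (hfg a ha).eq.symm)
            fun a ha => Subgroup.mem_centralizer_singleton_iff.2 ?_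
          exact (c.commute_z hfgS (hUz ha)).eq.symm
        exact Subgroup.mem_centralizer_singleton_iff.1 (hle (hsup hw))
      have := H.mul_mem (H.inv_mem (hEH hf)) (c.UH hU')
      rwa [inv_mul_cancel_left] at this
    exact hα k (hSH hk) hkU hks
  · obtain ⟨f, hf, hfe⟩ : ∃ f ∈ E, ¬ Commute f e := by
      by_contra hcon
      push Not at hcon
      refine heU (c.cent e (c.HS (hEH he)) fun w hw => ?_)
      have hle : E ⊔ U ≤ centralizer {e} :=
        sup_le (fun a ha => Subgroup.mem_centralizer_singleton_iff.2 (hcon a ha).eq)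
          fun a ha => Subgroup.mem_centralizer_singleton_iff.2 (c.central a ha e (hEH he)).eq.symm
      exact Subgroup.mem_centralizer_singleton_iff.1 (hle (hsup hw))
    obtain ⟨i, hi⟩ : ∃ i : ℕ, (e ^ s) ^ i = f ^ s := mem_powers_iff_mem_zpowers.2 (by
      rw [c.zpowers_eq (hez e he) hes]; exact hez f hf)
    have := Fact.mk c.prime
    set w := f * (e ^ i)⁻¹
    have hwH : w ∈ H := H.mul_mem (hEH hf) (H.inv_mem (H.pow_mem (hEH he) i))
    have hk' : (e ^ i)⁻¹ ∈ H := H.inv_mem (H.pow_mem (hEH he) i)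
    have hc := c.comm _ hk' _ (hEH hf)
    have hws : w ^ s = 1 := by
      rw [CfsgLib.PGroup.SympType.mul_pow_commutator (c.commute_z (c.HS (hEH hf)) hc)
        (c.commute_z (c.HS hk') hc), inv_pow, ← pow_mul, mul_comm i s, pow_mul, hi, mul_inv_cancel,
        mul_one]
      obtain ⟨q, hq⟩ : s ∣ s.choose 2 := c.prime.dvd_choose_self (by norm_num) h3
      rw [hq, pow_mul, c.zpow_eq_one hc, one_pow]
    by_cases hwU : w ∈ U
    · refine hfe ?_
      have h1 : Commute w e := (c.central w hwU e (hEH he)).symm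
      have h2 := h1.mul_left ((Commute.refl e).pow_left i)
      rwa [inv_mul_cancel_right] at h2
    · exact hα w hwH hwU hws

/-- The case of a normal `s`-subgroup containing an element with a fixed vector. -/
theorem sq_of_normal (h : Setup V p K0) (hirr : Irred M V) {s : ℕ} [hs : Fact s.Prime]
    {S : Subgroup M} [hSn : S.Normal] (hSK : S ≤ K0) (hS : IsPGroup s S) {k : M} (hk : k ∈ S)
    (hks : k ^ s = 1) (hk1 : k ≠ 1) {v : V} (hv : v ≠ 0) (hkv : k • v = v) :
    (K0.index + 1) ^ 2 ≤ Nat.card V := by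
  classical
  by_cases hA : ∃ A : Subgroup S, A.Characteristic ∧ IsMulCommutative A ∧ ¬ IsCyclic A
  · obtain ⟨A, hAc, hAab, hAn⟩ := hA
    let e := A.equivMapOfInjective S.subtype S.subtype_injective
    have : (A.map S.subtype).Normal := ConjAct.normal_of_characteristic_of_normal
    refine sq_of_abelian h hirr (A := A.map S.subtype) ((map_subtype_le A).trans hSK)
      ((hS.to_subgroup A).map _) ?_ fun hc => hAn (e.isCyclic.2 hc)
    rintro _ ⟨a, ha, rfl⟩ _ ⟨b, hb, rfl⟩
    exact (congrArg (fun w : A => ((w : S) : M)) (hAab.is_comm.comm ⟨a, ha⟩ ⟨b, hb⟩) :)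
  push Not at hA
  have hsymp : ∀ A : Subgroup S, A.Characteristic → IsMulCommutative A → IsCyclic A :=
    fun A h1 h2 => hA A h1 h2
  obtain ⟨H, hH, -⟩ := CfsgLib.PGroup.SympType.exists_maximal_crit hS
  obtain ⟨E, hEH, hsup, hEn', hEpow, -, hEcent⟩ := CfsgLib.PGroup.SympType.exists_decomp hS hsymp hH
  obtain ⟨hHc, hHco, hHp, hCH⟩ := hH
  set U := centralizer (H : Set S) with hUdef
  have hUc : U.Characteristic := inferInstance
  have hUab : IsMulCommutative U := by
    rw [← le_centralizer_iff_isMulCommutative]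
    exact le_centralizer_iff.1 (centralizer_le (hCH : (U : Set S) ⊆ H))
  have hUcyc := hsymp U hUc hUab
  have hcomU : ∀ a ∈ H, ∀ u ∈ U, Commute a u := fun a ha u hu => mem_centralizer_iff.1 hu a ha
  have hUne : U ≠ ⊥ := by
    intro hb
    have hHne : H ≠ ⊥ := by
      intro hHb
      have : (⟨k, hk⟩ : S) ∈ U := by
        rw [hUdef, mem_centralizer_iff, hHb]
        intro w hw
        rw [SetLike.mem_coe, mem_bot] at hw
        simp [hw]
      rw [hb, mem_bot] at this
      exact hk1 (congrArg Subtype.val this)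
    have : Nontrivial H := (nontrivial_iff_ne_bot H).2 hHne
    obtain ⟨⟨⟨a, ha⟩, hac⟩, hane⟩ := @exists_ne _ ((hS.to_subgroup H).center_nontrivial) (1 : center H)
    refine hane (Subtype.ext (Subtype.ext ((mem_bot (G := S)).1 (hb ▸ ?_))))
    rw [hUdef, mem_centralizer_iff]
    exact fun y hy => congrArg Subtype.val (mem_center_iff.1 hac ⟨y, hy⟩)
  obtain ⟨z, hzU, hzc, hz⟩ := CfsgLib.PGroup.exists_central_orderOf_eq hS U hUne
  have hzs : z ^ s = 1 := hz ▸ pow_orderOf_eq_one z
  have hz1 : z ≠ 1 := fun e => hs.out.ne_one (by rw [← hz, e, orderOf_one])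
  have htor : ∀ u ∈ U, u ^ s = 1 → u ∈ zpowers z := fun u hu hus =>
    CfsgLib.PGroup.SympType.mem_zpowers_of_cyclic hUcyc hzU hu hzs hz1 hus
  have hzp : ∀ w ∈ zpowers z, S.subtype w ∈ zpowers (z : M) := fun w hw => by
    rw [← S.coe_subtype, ← MonoidHom.map_zpowers]; exact ⟨w, hw, rfl⟩
  have hmem : ∀ {A : Subgroup S} {w : S}, (w : M) ∈ A.map S.subtype ↔ w ∈ A := fun {A w} =>
    Subgroup.mem_map_iff_mem S.subtype_injective
  have hUMn : (U.map S.subtype).Normal := ConjAct.normal_of_characteristic_of_normal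
  have hztor : ∀ u ∈ U.map S.subtype, u ^ s = 1 → u ∈ zpowers (z : M) := by
    rintro _ ⟨u, hu, rfl⟩ hus
    exact hzp u (htor u hu (S.subtype_injective (by rw [map_pow, map_one]; exact hus)))
  have c : SympCtx s K0 S (H.map S.subtype) (U.map S.subtype) (z : M) :=
    { prime := hs.out
      S_normal := hSn
      S_le := hSK
      S_pgroup := hS
      H_normal := ConjAct.normal_of_characteristic_of_normal
      U_normal := hUMn
      UH := map_mono hCH
      HS := map_subtype_le H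
      cent := fun g hg hcom => ⟨⟨g, hg⟩, by
        show (⟨g, hg⟩ : S) ∈ centralizer (H : Set S)
        rw [mem_centralizer_iff]
        exact fun w hw => Subtype.ext (hcom w ⟨w, hw, rfl⟩), rfl⟩
      central := by
        rintro _ ⟨u, hu, rfl⟩ _ ⟨w, hw, rfl⟩
        exact (hcomU w hw u hu).map S.subtype
      comm := by
        rintro _ ⟨a, ha, rfl⟩ _ ⟨b, hb, rfl⟩
        rw [← map_commutatorElement]
        have h1 : ⁅a, b⁆ ∈ U := (hHco a ha b).2
        refine hzp _ (htor _ h1 ?_)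
        rw [← CfsgLib.PGroup.commutator_pow_left a b (hcomU a ha _ h1),
          commutatorElement_eq_one_iff_mul_comm]
        exact (hcomU b hb _ (hHp a ha)).eq.symm
      pow_mem_U := by
        rintro _ ⟨a, ha, rfl⟩
        rw [← map_pow]
        exact ⟨_, hHp a ha, rfl⟩
      z_mem := ⟨z, hzU, rfl⟩
      z_order := by rw [orderOf_coe, hz]
      z_normal := ⟨fun a ha g => hztor _
        (hUMn.conj_mem a (zpowers_le.2 (⟨z, hzU, rfl⟩ : (z : M) ∈ U.map S.subtype) ha) g) (by
          obtain ⟨i, rfl⟩ := mem_zpowers_iff.1 ha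
          have hz' : (z : M) ^ s = 1 := congrArg Subtype.val hzs
          rw [conj_pow, ← zpow_natCast ((z : M) ^ i), ← zpow_mul, mul_comm i, zpow_mul, zpow_natCast,
            hz', one_zpow, mul_one, mul_inv_cancel])⟩
      z_central := fun g hg => congrArg Subtype.val (mem_center_iff.1 hzc ⟨g, hg⟩)
      torsion := hztor
      cyclic := (U.equivMapOfInjective S.subtype S.subtype_injective).isCyclic.1 hUcyc }
  refine sq_of_ctx c h hirr (E := E.map S.subtype) (map_mono hEH) ?_ ?_ ?_ hk hks hk1 hv hkv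
  · rw [← Subgroup.map_sup, hsup]
  · rintro _ ⟨a, ha, rfl⟩
    rw [← map_pow, ← map_pow, (hEpow a ha).2.2, map_one]
  · intro g hg
    have hEn : ∀ a : S, a ∈ E ⊔ centralizer (E : Set S) := fun a => hEcent ▸ mem_top a
    have h1 := hEn ⟨g, hg⟩
    rw [← SetLike.mem_coe, Subgroup.normal_mul] at h1
    obtain ⟨a, ha, w, hw, haw⟩ := h1
    refine ⟨(a⁻¹ : S), ⟨_, E.inv_mem ha, rfl⟩, ?_⟩
    rintro _ ⟨b, hb, rfl⟩
    have hgw : ((a⁻¹ : S) : M) * g = (w : M) := by
      have h2 : a⁻¹ * ⟨g, hg⟩ = w := by rw [← haw]; exact inv_mul_cancel_left a w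
      exact congrArg Subtype.val h2
    show Commute (((a⁻¹ : S) : M) * g) (b : M)
    rw [hgw]
    exact ((Subgroup.mem_centralizer_iff.1 hw b hb).symm |> congrArg Subtype.val :)

/-- The linear theorem. -/
theorem sq_of_setup (h : Setup V p K0) {k : M} (hk : k ∈ K0) (hk1 : k ≠ 1) {v : V} (hv : v ≠ 0)
    (hkv : k • v = v) : (K0.index + 1) ^ 2 ≤ Nat.card V := by
  classical
  have hord : orderOf k ≠ 1 := fun e => hk1 (orderOf_eq_one_iff.1 e)
  set s := (orderOf k).minFac
  have hs : s.Prime := Nat.minFac_prime hord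
  have := Fact.mk hs
  obtain ⟨q, hq⟩ := Nat.minFac_dvd (orderOf k)
  have hq0 : 0 < q := Nat.pos_of_ne_zero (by rintro rfl; exact (orderOf_pos k).ne' hq)
  set x := k ^ q with hx
  have hxs : x ^ s = 1 := by rw [hx, ← pow_mul, mul_comm, ← hq, pow_orderOf_eq_one]
  have hx1 : x ≠ 1 := by
    intro e
    have h1 := Nat.le_of_dvd hq0 (orderOf_dvd_of_pow_eq_one e)
    rw [hq] at h1
    nlinarith [hs.two_le]
  have hxK : x ∈ K0 := K0.pow_mem hk q
  have hxv : x • v = v := pow_mem (show k ∈ stabilizer M v from hkv) q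
  have hKn := h.normal
  have hxp : IsPGroup s (zpowers (⟨x, hxK⟩ : K0)) :=
    IsPGroup.of_card (n := 1) (by
      rw [pow_one, Nat.card_zpowers]
      exact orderOf_eq_prime (Subtype.ext hxs) fun e => hx1 (congrArg Subtype.val e))
  obtain ⟨S0, hS0⟩ := hxp.exists_le_sylow
  have hfr := Sylow.normalizer_sup_eq_top S0
  set S1 : Subgroup M := (S0 : Subgroup K0).map K0.subtype
  set M' : Subgroup M := Subgroup.normalizer (S1 : Set M)
  have hS1M : S1 ≤ M' := le_normalizer
  set K' : Subgroup M' := K0.subgroupOf M'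
  have hidx : K'.index = K0.index := by
    show K0.relIndex M' = K0.index
    rw [← relIndex_sup_right (K := K0) (H := M'), hfr, relIndex_top_right]
  have hK' : Setup V p K' :=
    { normal := hKn.subgroupOf M'
      prime := h.prime
      exp := h.exp
      coprime := fun hd => h.coprime (hd.trans (card_comap_dvd_of_injective K0 M'.subtype M'.subtype_injective))
      faithful := fun g hg => Subtype.ext (h.faithful g hg)
      free := fun g hg w hw => h.free g hg w hw }
  rw [← hidx]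
  by_cases hirr : Irred M' V
  · have : (S1.subgroupOf M').Normal := normal_in_normalizer
    exact sq_of_normal hK' hirr (S := S1.subgroupOf M')
      (fun a ha => (map_subtype_le (S0 : Subgroup K0)) ha)
      ((S0.isPGroup'.map K0.subtype).comap_of_injective M'.subtype M'.subtype_injective)
      (k := ⟨x, hS1M ⟨⟨x, hxK⟩, hS0 (mem_zpowers _), rfl⟩⟩) ⟨⟨x, hxK⟩, hS0 (mem_zpowers _), rfl⟩
      (Subtype.ext hxs) (fun e => hx1 (congrArg Subtype.val e)) hv hxv
  · simp only [Irred, not_forall, not_or] at hirr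
    obtain ⟨W, hW, hW0, hW1⟩ := hirr
    exact (hK'.sq_le_of_reducible hW hW0 hW1)


end CfsgLib.DerangeExact
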