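import Cfsg.Agent.Lib.DerangeExact.Linear
import Cfsg.Agent.Lib.DerangeIndex.Main
import Mathlib.GroupTheory.Perm.Basic
import Mathlib.GroupTheory.SpecificGroups.Cyclic

/-!
The exact bound on the index of the derangement subgroup of a primitive group of non-affine type.
-/

set_option autoImplicit false
set_option linter.unusedSectionVars false

open MulAction Subgroup

namespace CfsgLib.DerangeExact

open CfsgLib.DerangeIndex

variable {G : Type*} [Group G] [Finite G] {Ω : Type*} [MulAction G Ω] [Finite Ω]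

section Affine

variable {p : ℕ} {D P : Subgroup G} {a : Ω} (A : Aff p D P a)
include A

/-- The case of an element of `D` centralizing a non-identity element of `P`. -/
theorem sq_of_aff {k v : G} (hk : k ∈ stabilizer G a ⊓ D ⊓ Subgroup.normalizer (P : Set G)) (hk1 : k ≠ 1)
    (hv : v ∈ P) (hv1 : v ≠ 1) (hkv : Commute k v) : (D.index + 1) ^ 2 ≤ Nat.card Ω := by
  set Y := stabilizer G a ⊓ Subgroup.normalizer (P : Set G)
  have hconj : ∀ (y : Y) (x : P), (y : G) * (x : G) * (y : G)⁻¹ ∈ P := fun y x =>
    (Subgroup.mem_normalizer_iff.1 y.2.2 _).1 x.2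
  let _ : CommGroup P := { (inferInstance : Group P) with
    mul_comm := fun x y => Subtype.ext (A.comm x x.2 y y.2).eq }
  let _ : DistribMulAction Y (Additive P) :=
    { smul := fun y x => Additive.ofMul ⟨(y : G) * (x.toMul : G) * (y : G)⁻¹, hconj y x.toMul⟩
      one_smul := fun x => Additive.toMul.injective (Subtype.ext (by
        show ((1 : Y) : G) * (x.toMul : G) * ((1 : Y) : G)⁻¹ = (x.toMul : G)
        simp))
      mul_smul := fun y y' x => Additive.toMul.injective (Subtype.ext (by
        show ((y * y' : Y) : G) * (x.toMul : G) * ((y * y' : Y) : G)⁻¹ =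
          (y : G) * ((y' : G) * (x.toMul : G) * (y' : G)⁻¹) * (y : G)⁻¹
        push_cast
        group))
      smul_zero := fun y => Additive.toMul.injective (Subtype.ext (by
        show (y : G) * ((1 : P) : G) * (y : G)⁻¹ = ((1 : P) : G)
        simp))
      smul_add := fun y x x' => Additive.toMul.injective (Subtype.ext (by
        show (y : G) * ((x.toMul * x'.toMul : P) : G) * (y : G)⁻¹ =
          ((y : G) * (x.toMul : G) * (y : G)⁻¹) * ((y : G) * (x'.toMul : G) * (y : G)⁻¹)
        push_cast
        group)) }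
  have hact : ∀ (y : Y) (x : Additive P), y • x = x ↔ Commute (y : G) (x.toMul : G) := by
    intro y x
    rw [← Additive.toMul.injective.eq_iff, Subtype.ext_iff]
    show (y : G) * (x.toMul : G) * (y : G)⁻¹ = (x.toMul : G) ↔ _
    rw [mul_inv_eq_iff_eq_mul]
    rfl
  have := A.normal
  have h : Setup (Additive P) p (D.subgroupOf Y) :=
    { normal := A.normal.subgroupOf Y
      prime := A.prime
      exp := fun x => Additive.toMul.injective (Subtype.ext (by
        show ((x.toMul ^ p : P) : G) = 1
        rw [Subgroup.coe_pow]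
        exact A.elem _ x.toMul.2))
      coprime := fun hd => A.coprime (hd.trans (by
        rw [← card_map_of_injective (K := D.subgroupOf Y) Y.subtype_injective]
        exact Subgroup.card_dvd_of_le (by
          rintro _ ⟨y, hy, rfl⟩
          exact ⟨y.2.1, hy⟩)))
      faithful := fun y hy => Subtype.ext (A.faithful_conj y.2.1 fun x hx =>
        (hact y (Additive.ofMul ⟨x, hx⟩)).1 (hy _))
      free := fun y hy x hx => Additive.toMul.injective (Subtype.ext
        (A.free_outside y.2.1 hy x.toMul.2 ((hact y x).1 hx))) }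
  have : Nontrivial (Additive P) :=
    ⟨Additive.ofMul ⟨v, hv⟩, 0, fun e => hv1 (congrArg (fun w : Additive P => (w.toMul : G)) e)⟩
  have h1 := sq_of_setup h (k := (⟨k, hk.1.1, hk.2⟩ : Y)) hk.1.2 (fun e => hk1 (congrArg Subtype.val e))
    (v := Additive.ofMul ⟨v, hv⟩)
    (fun e => hv1 (congrArg (fun w : Additive P => (w.toMul : G)) e)) ((hact _ _).2 hkv)
  rw [A.index_eq, show Nat.card (Additive P) = Nat.card Ω from
    (Nat.card_congr Additive.toMul).trans A.card] at h1
  exact h1

/-- A regular elementary abelian subgroup of `D` normalised by `D` is normal in the whole group. -/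
theorem aff_normal (hle : D ≤ Subgroup.normalizer (P : Set G)) : P.Normal := by
  set P' := P.subgroupOf D
  have : P'.Normal := (normal_subgroupOf_iff_le_normalizer A.le).2 hle
  have hDn : Nat.card Ω * Nat.card (stabilizer G a ⊓ D : Subgroup G) = Nat.card D := by
    have := A.trans
    rw [← index_stabilizer_of_transitive D a, ← card_mul_index (stabilizer D a), mul_comm]
    congr 1
    exact Nat.card_congr
      { toFun := fun x => ⟨⟨x.1, x.2.2⟩, x.2.1⟩
        invFun := fun x => ⟨x.1.1, x.2, x.1.2⟩
        left_inv := fun x => rfl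
        right_inv := fun x => rfl }
  have hidx : ¬ p ∣ P'.index := by
    have hP' : Nat.card P' = Nat.card Ω := (Nat.card_congr (subgroupOfEquivOfLe A.le).toEquiv).trans A.card
    have h1 := card_mul_index P'
    rw [hP', ← hDn] at h1
    have : Nonempty Ω := ⟨a⟩
    rw [Nat.eq_of_mul_eq_mul_left Nat.card_pos h1]
    exact A.coprime
  refine ⟨fun x hx g => ?_⟩
  have hxD : g * x * g⁻¹ ∈ D := A.normal.conj_mem x (A.le hx) g
  set q : D ⧸ P' := ((⟨g * x * g⁻¹, hxD⟩ : D) : D ⧸ P')
  have hqp : q ^ p = 1 := by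
    rw [← QuotientGroup.mk_pow, show (⟨g * x * g⁻¹, hxD⟩ : D) ^ p = 1 from Subtype.ext (by
      rw [Subgroup.coe_pow, conj_pow, A.elem x hx, mul_one, mul_inv_cancel, OneMemClass.coe_one]),
      QuotientGroup.mk_one]
  have hq : q = 1 := by
    rw [← orderOf_eq_one_iff]
    rcases (Nat.dvd_prime A.prime).1 (orderOf_dvd_of_pow_eq_one hqp) with e | e
    · exact e
    · exact absurd (e ▸ orderOf_dvd_natCard q) hidx
  have hm : (⟨g * x * g⁻¹, hxD⟩ : D) ∈ P' := (QuotientGroup.eq_one_iff _).1 hq
  exact hm

end Affine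

/-- A faithful transitive group of degree 2 or 3 has a non-trivial abelian normal subgroup. -/
theorem exists_abelian_normal [FaithfulSMul G Ω] [IsPretransitive G Ω] (h2 : 2 ≤ Nat.card Ω)
    (h3 : Nat.card Ω ≤ 3) : ∃ N : Subgroup G, N.Normal ∧ IsMulCommutative N ∧ N ≠ ⊥ := by
  have hd : Nat.card G ∣ 6 := by
    refine (Subgroup.card_dvd_of_injective (MulAction.toPermHom G Ω) MulAction.toPerm_injective).trans ?_
    rw [Nat.card_perm]
    interval_cases h : Nat.card Ω <;> decide
  have hnt : Nontrivial G := by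
    have : Nontrivial Ω := Finite.one_lt_card_iff_nontrivial.1 h2
    obtain ⟨x, y, hxy⟩ := exists_pair_ne Ω
    obtain ⟨g, hg⟩ := exists_smul_eq G x y
    exact ⟨g, 1, fun e => hxy (by rw [← hg, e, one_smul])⟩
  have h1 : 1 < Nat.card G := Finite.one_lt_card
  have hle := Nat.le_of_dvd (by norm_num) hd
  by_cases h6 : Nat.card G = 6
  · have := Fact.mk Nat.prime_three
    obtain ⟨N, hN⟩ := Sylow.exists_subgroup_card_pow_prime (G := G) 3 (n := 1) (by rw [h6]; norm_num)
    rw [pow_one] at hN
    have := isCyclic_of_prime_card hN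
    refine ⟨N, normal_of_index_eq_two ?_, inferInstance, fun e => ?_⟩
    · have := card_mul_index N
      rw [hN, h6] at this
      omega
    · rw [e, card_bot] at hN; omega
  · have hp : (Nat.card G).Prime := by
      interval_cases h : Nat.card G <;> first | omega | decide
    have := Fact.mk hp
    have := isCyclic_of_prime_card (α := G) rfl
    refine ⟨⊤, inferInstance, inferInstance, fun e => ?_⟩
    exact top_ne_bot e

/-- The bound for a primitive group of non-affine type. -/
theorem sq_index_le [FaithfulSMul G Ω] (hprim : IsPreprimitive G Ω) (hn : 2 ≤ Nat.card Ω)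
    (hna : ∀ N : Subgroup G, N.Normal → IsMulCommutative N → N = ⊥) :
    ((Derange.derSubgroup G Ω).index + 1) ^ 2 ≤ Nat.card Ω := by
  have htr : IsPretransitive G Ω := hprim.toIsPretransitive
  rcases lt_or_ge (Nat.card Ω) 4 with h4 | hn4
  · obtain ⟨N, h1, h2, h3⟩ := exists_abelian_normal (G := G) hn (by omega)
    exact absurd (hna N h1 h2) h3
  by_contra hcon
  have hlarge : Nat.card Ω < ((Derange.derSubgroup G Ω).index + 1) ^ 2 := not_le.1 hcon
  set D := Derange.derSubgroup G Ω
  have : Nonempty Ω := (Nat.card_pos_iff.1 (show 0 < Nat.card Ω by omega)).1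
  obtain ⟨a⟩ := id this
  obtain ⟨htrD, hD⟩ := counting (Δ := Ω) D fun g hg => Derange.exists_fixed_of_not_mem hg
  have hDtop : D ≠ ⊤ := fun e => by rw [e, index_top] at hlarge; omega
  set p := (Nat.card Ω).minFac
  have hp : p.Prime := Nat.minFac_prime (by omega)
  have := Fact.mk hp
  have hpd : p ∣ Nat.card Ω := Nat.minFac_dvd _
  have hbound : ∀ q : ℕ, q.Prime → q ∣ Nat.card Ω →
      D.index + 1 ≤ q ^ (Nat.card Ω).factorization q := by
    intro q hq hqd
    have := Fact.mk hq
    obtain ⟨P, Y, -, -, hYH, hYP, hcov, -, horb⟩ := exists_chain_orbit (p := q) hD hDtop a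
    rw [← horb]
    refine index_lt_of_invariant hD hYH hcov _ ?_ (mem_orbit_self a) ?_
    · rintro y hy _ ⟨⟨x, hx⟩, rfl⟩
      refine ⟨⟨y * x * y⁻¹, (Subgroup.mem_normalizer_iff.1 (hYP hy) x).1 hx⟩, ?_⟩
      exact (Aff.smul_point (hYH hy)).symm
    · refine Set.exists_ne_of_one_lt_ncard ?_ a
      rw [horb]
      exact Nat.one_lt_pow (hq.factorization_pos_of_dvd Nat.card_pos.ne' hqd).ne' hq.one_lt
  have hpow : Nat.card Ω = p ^ (Nat.card Ω).factorization p := by
    by_contra hne
    obtain ⟨r, hr⟩ := Nat.ordProj_dvd (Nat.card Ω) p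
    have hr1 : r ≠ 1 := fun e => hne (by rw [e, mul_one] at hr; exact hr)
    obtain ⟨q, hq, hqr⟩ := Nat.exists_prime_and_dvd hr1
    have hqd : q ∣ Nat.card Ω := hr ▸ dvd_mul_of_dvd_right hqr _
    have hqp : q ≠ p := by
      intro e
      subst e
      have h1 := congrArg (fun k => k.factorization p) hr
      have hr0 : r ≠ 0 := fun e => by rw [e, mul_zero] at hr; omega
      simp only [Nat.factorization_mul (pow_ne_zero _ hp.ne_zero) hr0, Finsupp.add_apply,
        hp.factorization_pow, Finsupp.single_eq_same] at h1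
      have := hp.factorization_pos_of_dvd hr0 hqr
      omega
    have hdvd : p ^ (Nat.card Ω).factorization p * q ^ (Nat.card Ω).factorization q ∣ Nat.card Ω :=
      Nat.Coprime.mul_dvd_of_dvd_of_dvd ((Nat.coprime_primes hp hq).2 (Ne.symm hqp) |>.pow _ _)
        (Nat.ordProj_dvd _ _) (Nat.ordProj_dvd _ _)
    exact absurd (sq_le_of_dvd_two (hbound p hp hpd) (hbound q hq hqd)
      (Nat.le_of_dvd Nat.card_pos hdvd)) (by omega)
  obtain ⟨P, Y, hP, hPD, hYH, hYP, hcov, hPc, horb⟩ := exists_chain_orbit (p := p) hD hDtop a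
  rw [← hpow] at horb
  have horb' : orbit P a = Set.univ :=
    Set.eq_of_subset_of_ncard_le (Set.subset_univ _) (by rw [Set.ncard_univ, horb]) (Set.toFinite _)
  have A := exists_aff hD hlarge (by omega) hP hPD hYH hYP hcov hPc horb'
  have hfree : ∀ k ∈ stabilizer G a ⊓ D ⊓ Subgroup.normalizer (P : Set G),
      ∀ v ∈ P, v ≠ 1 → Commute k v → k = 1 := by
    intro k hk v hv hv1 hkv
    by_contra hk1
    have := sq_of_aff A hk hk1 hv hv1 hkv
    omega
  have hKN := A.le_normalizer_of_large hfree hDtop (by omega) hlarge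
  have hDN : D ≤ Subgroup.normalizer (P : Set G) := fun d hd => by
    obtain ⟨q, hq, hqa⟩ := A.exists_point (d • a)
    have hk : q⁻¹ * d ∈ stabilizer G a ⊓ D := ⟨by
      show (q⁻¹ * d) • a = a
      rw [mul_smul, ← hqa, inv_smul_smul], D.mul_mem (D.inv_mem (A.le hq)) hd⟩
    simpa using (Subgroup.normalizer _).mul_mem (le_normalizer hq) (hKN hk)
  have hP1 := hna P (aff_normal A hDN) ⟨⟨fun x y => Subtype.ext (A.comm x x.2 y y.2).eq⟩⟩
  have hc := A.card
  rw [hP1, card_bot] at hc
  omega

end CfsgLib.DerangeExact
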