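import Cfsg.Agent.Lib.DerangeExact.Combi
import Cfsg.Agent.Lib.DerangeExact.Count

/-!
Basic facts for a normal 2-subgroup of symplectic type with an element fixing a vector.
-/

set_option autoImplicit false
set_option linter.unusedSectionVars false

open MulAction Subgroup
open scoped commutatorElement

namespace CfsgLib.DerangeExact

open CfsgLib.DerangeIndex

variable {M : Type*} [Group M] [Finite M]

section Generic

variable {V : Type*} [AddCommGroup V] [DistribMulAction M V]

open Classical in
/-- Counting fixed pairs in two ways. -/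
theorem sum_card_stab [Fintype M] [DecidableEq V] (X : Subgroup M) (P : Finset V) :
    ∑ v ∈ P, Nat.card (X ⊓ stabilizer M v : Subgroup M) =
      ∑ g ∈ Finset.univ.filter (· ∈ X), (P.filter fun v => g • v = v).card := by
  have : ∀ v : V, Nat.card (X ⊓ stabilizer M v : Subgroup M) =
      ∑ g ∈ Finset.univ.filter (· ∈ X), if g • v = v then 1 else 0 := by
    intro v
    rw [← Finset.card_filter, Finset.filter_filter, Nat.card_eq_fintype_card, Fintype.card_subtype]
    exact congrArg Finset.card (Finset.filter_congr fun g _ => by simp [Subgroup.mem_inf])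
  simp only [this, Finset.card_filter]
  exact Finset.sum_comm

open Classical in
/-- A number dividing every orbit length divides the size of an invariant set. -/
theorem dvd_card_of_orbits [Fintype V] (X : Subgroup M) {d : ℕ} :
    ∀ P : Finset V, (∀ g ∈ X, ∀ v ∈ P, g • v ∈ P) → (∀ v ∈ P, d ∣ (orbit X v).ncard) → d ∣ P.card := by
  intro P
  induction P using Finset.strongInduction with
  | _ P ih =>
    intro hinv hd
    rcases P.eq_empty_or_nonempty with rfl | ⟨v, hv⟩
    · simp
    set O := (orbit X v).toFinset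
    have hOP : O ⊆ P := fun w hw => by
      obtain ⟨g, rfl⟩ := Set.mem_toFinset.1 hw
      exact hinv g g.2 v hv
    have h1 : (P \ O).card + O.card = P.card := Finset.card_sdiff_add_card_eq_card hOP
    rw [← h1]
    refine dvd_add (ih _ ?_ ?_ ?_) ?_
    · exact Finset.sdiff_ssubset hOP ⟨v, Set.mem_toFinset.2 (mem_orbit_self v)⟩
    · intro g hg w hw
      rw [Finset.mem_sdiff] at hw ⊢
      refine ⟨hinv g hg w hw.1, fun h' => hw.2 ?_⟩
      rw [Set.mem_toFinset] at h' ⊢
      obtain ⟨k, hk⟩ := h'
      refine ⟨(⟨g, hg⟩ : X)⁻¹ * k, ?_⟩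
      show ((⟨g, hg⟩ : X)⁻¹ * k) • v = w
      rw [mul_smul]
      exact inv_smul_eq_iff.2 hk
    · exact fun w hw => hd w (Finset.mem_sdiff.1 hw).1
    · rw [← Set.ncard_eq_toFinset_card' (orbit X v)]
      exact hd v hv

end Generic

section Two

variable {K0 S H U : Subgroup M} {z : M} (c : SympCtx 2 K0 S H U z)
include c

omit [Finite M] in
theorem z_ne_one : z ≠ 1 := fun e => by
  have h := c.z_order
  rw [e, orderOf_one] at h
  omega

omit [Finite M] in
theorem mem_zpowers_z {a : M} : a ∈ zpowers z ↔ a = 1 ∨ a = z := by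
  refine ⟨fun ha => ?_, fun h => ?_⟩
  · obtain ⟨i, rfl⟩ := mem_zpowers_iff.1 ha
    rcases Int.even_or_odd' i with ⟨j, rfl | rfl⟩
    · left; rw [zpow_mul]; norm_cast; rw [c.z_pow, one_zpow]
    · right; rw [zpow_add, zpow_mul]; norm_cast; rw [c.z_pow, one_zpow, one_mul, pow_one]
  · rcases h with rfl | rfl
    · exact one_mem _
    · exact mem_zpowers _

theorem card_H_eq : U.relIndex H * Nat.card U = Nat.card H := by
  rw [← Nat.card_congr (subgroupOfEquivOfLe c.UH).toEquiv, mul_comm]
  exact card_mul_index _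

theorem eq_zpowers_of_card_two (hU : Nat.card U = 2) : U = zpowers z :=
  (eq_of_le_of_card_ge c.z_le (by rw [hU, Nat.card_zpowers, c.z_order])).symm

open Classical in
/-- At most two involutions in each coset of `U`. -/
theorem card_sq_one_mul [Fintype M] {Y : Subgroup M} (hUY : U ≤ Y) (hYH : Y ≤ H) :
    (Finset.univ.filter fun g : M => g ∈ Y ∧ g * g = 1).card * Nat.card U ≤ 2 * Nat.card Y := by
  set Jf := Finset.univ.filter fun g : M => g ∈ Y ∧ g * g = 1
  set Uf := Finset.univ.filter fun g : M => g ∈ U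
  set Yf := Finset.univ.filter fun g : M => g ∈ Y
  have hU : Uf.card = Nat.card U := by rw [Nat.card_eq_fintype_card, Fintype.card_subtype]
  have hY : Yf.card = Nat.card Y := by rw [Nat.card_eq_fintype_card, Fintype.card_subtype]
  rw [← hU, ← hY, ← Finset.card_product]
  refine (Finset.card_le_mul_card_image_of_maps_to (f := fun gu : M × M => gu.1 * gu.2) (t := Yf) ?_ 2 ?_)
  · intro gu hgu
    simp only [Finset.mem_product, Jf, Uf, Yf, Finset.mem_filter, Finset.mem_univ, true_and] at hgu ⊢
    exact Y.mul_mem hgu.1.1 (hUY hgu.2)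
  · intro w _
    rcases ((Jf ×ˢ Uf).filter fun gu => gu.1 * gu.2 = w).eq_empty_or_nonempty with h0 | ⟨⟨g0, u0⟩, h0⟩
    · rw [h0]; simp
    refine (Finset.card_le_card (t := ({(g0, u0), (g0 * z, z * u0)} : Finset (M × M))) ?_).trans
      Finset.card_le_two
    rintro ⟨g, u⟩ hgu
    simp only [Finset.mem_filter, Finset.mem_product, Jf, Uf, Finset.mem_univ, true_and] at hgu h0
    obtain ⟨⟨⟨hgY, hg⟩, hu⟩, hw⟩ := hgu
    obtain ⟨⟨⟨hg0Y, hg0⟩, hu0⟩, hw0⟩ := h0
    have hd : g = g0 * (u0 * u⁻¹) := by rw [← mul_assoc, hw0, ← hw, mul_inv_cancel_right]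
    have hdU : u0 * u⁻¹ ∈ U := U.mul_mem hu0 (U.inv_mem hu)
    have hd2 : (u0 * u⁻¹) ^ 2 = 1 := by
      have h1 := (c.central _ hdU g0 (hYH hg0Y)).mul_pow 2
      rw [← hd, sq g, hg, sq g0, hg0, one_mul] at h1
      exact h1.symm
    rw [Finset.mem_insert, Finset.mem_singleton]
    rcases (mem_zpowers_z c).1 (c.torsion _ hdU hd2) with e | e
    · left
      rw [e, mul_one] at hd
      rw [hd, (mul_inv_eq_one.1 e).symm]
    · right
      rw [e] at hd
      have hu' : u = z * u0 := by
        have h2 : z * (z * u0) = u0 := by rw [← mul_assoc, ← sq, c.z_pow, one_mul]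
        have h3 : u0 = z * u := by rw [← e, inv_mul_cancel_right]
        rw [h3, ← mul_assoc, ← sq, c.z_pow, one_mul]
      rw [hd, hu']

open Classical in
/-- The formula for the number of involutions of `H` when `|U| = 2`. -/
theorem count_H [Fintype M] (hU : Nat.card U = 2) :
    (2 * ((Finset.univ.filter fun g : M => g ∈ H ∧ g * g = 1).card : ℤ) - Nat.card H) ^ 2 =
      2 * Nat.card H := by
  have hUz := eq_zpowers_of_card_two c hU
  have hmem : z ∈ H := c.UH c.z_mem
  have h := square_count (X := H) ⟨z, hmem⟩ (fun e => z_ne_one c (congrArg Subtype.val e))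
    (fun g => by
      have h1 := c.pow_mem_U g g.2
      rw [hUz, mem_zpowers_z c, sq] at h1
      exact h1.imp (fun e => Subtype.ext e) fun e => Subtype.ext e)
    (fun g d => ((mem_zpowers_z c).1 (c.comm g g.2 d d.2)).imp (fun e => Subtype.ext e) fun e => Subtype.ext e)
    (fun g => Subtype.ext (c.z_central g (c.HS g.2)).eq)
    (fun d hd => by
      have h1 : (d : M) ∈ U := c.cent d (c.HS d.2) fun w hw => congrArg Subtype.val (hd ⟨w, hw⟩).eq
      rw [hUz, mem_zpowers_z c] at h1
      rcases h1 with e | e <;> refine Subtype.ext ?_ <;> rw [Subgroup.coe_mul, e, OneMemClass.coe_one]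
      · exact one_mul 1
      · rw [← sq, c.z_pow])
  have hJ : (Finset.univ.filter fun g : H => g * g = 1).card =
      (Finset.univ.filter fun g : M => g ∈ H ∧ g * g = 1).card := by
    rw [← Finset.card_map (Function.Embedding.subtype (· ∈ H))]
    refine congrArg Finset.card ?_
    ext g
    simp [Subtype.ext_iff, and_comm]
  have hZ : (Finset.univ.filter fun d : H => ∀ g : H, Commute g d).card = 2 := by
    rw [← hU, Nat.card_eq_fintype_card, ← Fintype.card_subtype]
    exact Fintype.card_congr
      { toFun := fun d => ⟨(d.1 : M), c.cent _ (c.HS d.1.2) fun w hw =>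
          congrArg Subtype.val (d.2 ⟨w, hw⟩).eq⟩
        invFun := fun d => ⟨⟨d.1, c.UH d.2⟩, fun g => Subtype.ext (c.central _ d.2 g g.2).eq⟩
        left_inv := fun d => rfl
        right_inv := fun d => rfl }
  have e1 : (2 * ((Finset.univ.filter fun g : H => g * g = 1).card : ℤ) - Nat.card H) ^ 2 =
      (Finset.univ.filter fun d : H => ∀ g : H, Commute g d).card * Nat.card H := by
    rw [Nat.card_eq_fintype_card]
    convert h
  rw [hJ, hZ] at e1
  exact_mod_cast e1

variable {x : M} (hx : x ∈ H) (hxU : x ∉ U) (hxs : x ^ 2 = 1)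
include hx hxU hxs

open Classical in
/-- The formula for the number of involutions of `C_H(x)` when `|U| = 2`. -/
theorem count_X [Fintype M] (hU : Nat.card U = 2) :
    (2 * ((Finset.univ.filter fun g : M => g ∈ H ⊓ centralizer {x} ∧ g * g = 1).card : ℤ) -
      Nat.card (H ⊓ centralizer {x} : Subgroup M)) ^ 2 =
      4 * Nat.card (H ⊓ centralizer {x} : Subgroup M) := by
  set X := H ⊓ centralizer {x}
  have hUz := eq_zpowers_of_card_two c hU
  have hzX : z ∈ X := ⟨c.UH c.z_mem,
    Subgroup.mem_centralizer_singleton_iff.2 (c.z_central x (c.HS hx)).eq.symm⟩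
  have hxX : x ∈ X := ⟨hx, Subgroup.mem_centralizer_singleton_iff.2 rfl⟩
  obtain ⟨g0, hg0, hg0x⟩ := c.exists_conj hx hxU (mem_zpowers z)
  have hcx : ∀ g ∈ X, Commute g x := fun g hg => Subgroup.mem_centralizer_singleton_iff.1 hg.2
  have hgen : ∀ d ∈ H, (∀ g ∈ X, Commute g d) → Commute g0 d → d ∈ U := by
    intro d hd hcomm hg0d
    refine c.cent d (c.HS hd) fun w hw => ?_
    by_cases hwX : w ∈ X
    · exact (hcomm w hwX).eq
    have h1 : w * x * w⁻¹ = z * x := by
      refine (c.conj_cases hw hx).resolve_left fun e => hwX ⟨hw, ?_⟩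
      show w ∈ centralizer {x}
      rw [Subgroup.mem_centralizer_singleton_iff, ← mul_inv_eq_iff_eq_mul, e]
    have h2 : g0⁻¹ * w ∈ X := by
      refine ⟨H.mul_mem (H.inv_mem hg0) hw, ?_⟩
      show g0⁻¹ * w ∈ centralizer {x}
      rw [Subgroup.mem_centralizer_singleton_iff, ← mul_inv_eq_iff_eq_mul]
      calc g0⁻¹ * w * x * (g0⁻¹ * w)⁻¹ = g0⁻¹ * (w * x * w⁻¹) * g0 := by group
        _ = g0⁻¹ * (g0 * x * g0⁻¹) * g0 := by rw [h1, hg0x]
        _ = x := by group
    have h3 := hg0d.mul_left (hcomm _ h2)
    rw [mul_inv_cancel_left] at h3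
    exact h3.eq
  have hcent : ∀ d ∈ X, (∀ g ∈ X, Commute g d) → d = 1 ∨ d = z ∨ d = x ∨ d = z * x := by
    intro d hd hcomm
    rcases c.conj_cases hg0 hd.1 with e | e
    · have h1 := hgen d hd.1 hcomm (mul_inv_eq_iff_eq_mul.1 e)
      rw [hUz, mem_zpowers_z c] at h1
      rcases h1 with e | e <;> simp [e]
    · have h1 := hgen (d * x) (H.mul_mem hd.1 hx) (fun g hg => (hcomm g hg).mul_right (hcx g hg))
        (mul_inv_eq_iff_eq_mul.1 (by
          rw [← conj_mul, e, hg0x, mul_assoc z d, ← mul_assoc d z x,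
            (c.z_central d (c.HS hd.1)).eq, ← mul_assoc, ← mul_assoc, ← sq, c.z_pow, one_mul]))
      rw [hUz, mem_zpowers_z c] at h1
      have hxi : x⁻¹ = x := inv_eq_of_mul_eq_one_right (by rw [← sq, hxs])
      rcases h1 with e1 | e1
      · have : d = x := by rw [eq_inv_of_mul_eq_one_left e1, hxi]
        simp [this]
      · have : d = z * x := by rw [← e1, mul_assoc, ← sq, hxs, mul_one]
        simp [this]
  have h := square_count (X := X) ⟨z, hzX⟩ (fun e => z_ne_one c (congrArg Subtype.val e))
    (fun g => by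
      have h1 := c.pow_mem_U g g.2.1
      rw [hUz, mem_zpowers_z c, sq] at h1
      exact h1.imp (fun e => Subtype.ext e) fun e => Subtype.ext e)
    (fun g d => ((mem_zpowers_z c).1 (c.comm g g.2.1 d d.2.1)).imp (fun e => Subtype.ext e) fun e => Subtype.ext e)
    (fun g => Subtype.ext (c.z_central g (c.HS g.2.1)).eq)
    (fun d hd => by
      refine Subtype.ext ?_
      rw [Subgroup.coe_mul, OneMemClass.coe_one, ← sq]
      rcases hcent d d.2 (fun g hg => congrArg Subtype.val (hd ⟨g, hg⟩).eq) with e | e | e | e <;> rw [e]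
      · exact one_pow 2
      · exact c.z_pow
      · exact hxs
      · rw [(c.z_central x (c.HS hx)).symm.mul_pow, c.z_pow, hxs, one_mul])
  have hJ : (Finset.univ.filter fun g : X => g * g = 1).card =
      (Finset.univ.filter fun g : M => g ∈ X ∧ g * g = 1).card := by
    rw [← Finset.card_map (Function.Embedding.subtype (· ∈ X))]
    refine congrArg Finset.card ?_
    ext g
    simp [Subtype.ext_iff, and_comm]
  have hxz : x ≠ z := fun e => hxU (e ▸ c.z_mem)
  have hx1 : x ≠ 1 := fun e => hxU (e ▸ U.one_mem)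
  have hzx : z * x ≠ 1 := fun e => hxU (by rw [eq_inv_of_mul_eq_one_right e]; exact U.inv_mem c.z_mem)
  have hz1 := z_ne_one c
  have hZ : (Finset.univ.filter fun d : X => ∀ g : X, Commute g d).card = 4 := by
    rw [← Finset.card_map (Function.Embedding.subtype (· ∈ X)),
      show (Finset.univ.filter fun d : X => ∀ g : X, Commute g d).map (Function.Embedding.subtype (· ∈ X)) =
        ({1, z, x, z * x} : Finset M) from ?_]
    · rw [Finset.card_insert_of_notMem, Finset.card_insert_of_notMem, Finset.card_insert_of_notMem,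
        Finset.card_singleton]
      · rw [Finset.mem_singleton]; exact fun e => hz1 (mul_eq_right.1 e.symm)
      · simp only [Finset.mem_insert, Finset.mem_singleton]
        rintro (e | e)
        · exact hxz e.symm
        · exact hx1 (left_eq_mul.1 e)
      · simp only [Finset.mem_insert, Finset.mem_singleton]
        rintro (e | e | e)
        · exact hz1 e.symm
        · exact hx1 e.symm
        · exact hzx e.symm
    · ext d
      simp only [Finset.mem_map, Finset.mem_filter, Finset.mem_univ, true_and,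
        Function.Embedding.coe_subtype, Finset.mem_insert, Finset.mem_singleton]
      constructor
      · rintro ⟨d, hd, rfl⟩
        exact hcent d d.2 fun g hg => congrArg Subtype.val (hd ⟨g, hg⟩).eq
      · intro hd
        have hzc : ∀ g : X, Commute (g : M) z := fun g => c.z_central g (c.HS g.2.1)
        rcases hd with rfl | rfl | rfl | rfl
        · exact ⟨1, fun g => Commute.one_right g, rfl⟩
        · exact ⟨⟨_, hzX⟩, fun g => Subtype.ext (hzc g).eq, rfl⟩
        · exact ⟨⟨_, hxX⟩, fun g => Subtype.ext (hcx g g.2).eq, rfl⟩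
        · exact ⟨⟨_, X.mul_mem hzX hxX⟩, fun g => Subtype.ext ((hzc g).mul_right (hcx g g.2)).eq, rfl⟩
  have e1 : (2 * ((Finset.univ.filter fun g : X => g * g = 1).card : ℤ) - Nat.card X) ^ 2 =
      (Finset.univ.filter fun d : X => ∀ g : X, Commute g d).card * Nat.card X := by
    rw [Nat.card_eq_fintype_card]
    convert h
  rw [hJ, hZ] at e1
  exact_mod_cast e1

variable {V : Type*} [AddCommGroup V] [DistribMulAction M V] [Finite V] [Nontrivial V] {p : ℕ}
  (h : Setup V p K0) (hirr : Irred M V)
include h hirr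

omit hx hxU hxs in
theorem not_dvd_two : ¬ p ∣ 2 := h.ne_of_orderOf (c.S_le (c.HS (c.UH c.z_mem))) c.z_order

omit hx hxU hxs in
theorem z_smul (v : V) : z • v = -v := by
  have h1 : z • (v + z • v) = v + z • v := by
    rw [smul_add, smul_smul, ← sq, c.z_pow, one_smul, add_comm]
  exact eq_neg_of_add_eq_zero_right (c.z_free h hirr (mem_zpowers z) (z_ne_one c) h1)

omit hx hxU hxs in
/-- The fixed space of an involution of `H` outside `U` has `√n` elements. -/
theorem card_fix_sq {g : M} (hg : g ∈ H) (hgU : g ∉ U) (hgs : g ^ 2 = 1) :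
    Nat.card (fixSub V (zpowers g)) ^ 2 = Nat.card V := by
  obtain ⟨t, ht, htg⟩ := c.exists_conj hg hgU (mem_zpowers z)
  refine le_antisymm (c.translates h hirr (c.HS hg) hgs (c.HS ht) (mem_zpowers z) (z_ne_one c) htg).2 ?_
  have hzg : Nat.card (fixSub V (zpowers (z * g))) = Nat.card (fixSub V (zpowers g)) := by
    have hiff : ∀ w : V, (z * g) • w = w ↔ g • t⁻¹ • w = t⁻¹ • w := fun w => by
      rw [← htg, mul_smul, mul_smul, smul_eq_iff_eq_inv_smul]
    exact Nat.card_congr
      { toFun := fun w => ⟨t⁻¹ • (w : V), fixSub_zpowers.2 ((hiff _).1 (fixSub_zpowers.1 w.2))⟩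
        invFun := fun w => ⟨t • (w : V), fixSub_zpowers.2 ((hiff _).2 (by
          rw [inv_smul_smul]; exact fixSub_zpowers.1 w.2))⟩
        left_inv := fun w => Subtype.ext (smul_inv_smul t (w : V))
        right_inv := fun w => Subtype.ext (inv_smul_smul t (w : V)) }
  have hgg : ∀ v : V, g • g • v = v := fun v => by rw [smul_smul, ← sq, hgs, one_smul]
  rw [sq]
  conv_rhs => arg 2; rw [← hzg]
  rw [← Nat.card_prod]
  refine Nat.card_le_card_of_injective (fun v : V =>
    ((⟨v + g • v, fixSub_zpowers.2 (by rw [smul_add, hgg, add_comm])⟩ : fixSub V (zpowers g)),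
      (⟨v - g • v, fixSub_zpowers.2 (by
        rw [mul_smul, smul_sub, hgg, z_smul c h hirr, neg_sub])⟩ : fixSub V (zpowers (z * g)))))
    fun v v' he => ?_
  simp only [Prod.mk.injEq, Subtype.mk.injEq] at he
  refine sub_eq_zero.1 (h.eq_zero_of_nsmul (not_dvd_two c h hirr) ?_)
  calc 2 • (v - v') = ((v + g • v) + (v - g • v)) - ((v' + g • v') + (v' - g • v')) := by abel
    _ = 0 := by rw [he.1, he.2, sub_self]

end Two

section Dim

variable {s : ℕ} {K0 S H U : Subgroup M} {z : M} (c : SympCtx s K0 S H U z)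
variable {V : Type*} [AddCommGroup V] [DistribMulAction M V] [Finite V] [Nontrivial V] {p : ℕ}
  (h : Setup V p K0) (hirr : Irred M V)
include c h hirr

/-- `|H : U| ≤ D²` where `p ^ D = |V|`. -/
theorem relIndex_le_dim [Fact p.Prime] [Module (ZMod p) V] :
    U.relIndex H ≤ Module.finrank (ZMod p) V ^ 2 := by
  classical
  have := Fintype.ofFinite (H ⧸ U.subgroupOf H)
  let φ : H ⧸ U.subgroupOf H → (V →ₗ[ZMod p] V) := fun q =>
    (DistribSMul.toAddMonoidHom V ((q.out : H) : M)).toZModLinearMap p
  have hrep : ∀ q q' : H ⧸ U.subgroupOf H,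
      ((q.out : H) : M)⁻¹ * ((q'.out : H) : M) ∈ U → q = q' := by
    intro q q' hm
    rw [← q.out_eq', ← q'.out_eq', QuotientGroup.eq, mem_subgroupOf]
    exact hm
  have hli : LinearIndependent (ZMod p) φ := by
    rw [Fintype.linearIndependent_iff]
    intro a ha
    by_contra hcon
    push Not at hcon
    obtain ⟨q0, hq0⟩ := hcon
    set T := Finset.univ.filter fun q => a q ≠ 0
    set r : H ⧸ U.subgroupOf H → M := fun q => ((q.out : H) : M)
    have hr : Function.Injective r := fun q q' he => hrep q q' (by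
      show (r q)⁻¹ * r q' ∈ U
      rw [he, inv_mul_cancel]; exact U.one_mem)
    let f : M → (V →+ V) := fun x =>
      if hx : x ∈ T.image r then
        DistribSMul.toAddMonoidHom V (a (Finset.mem_image.1 hx).choose) else 0
    have hf : ∀ q ∈ T, ∀ v, f (r q) v = a q • v := by
      intro q hq v
      have hx : r q ∈ T.image r := Finset.mem_image_of_mem r hq
      simp only [f, dif_pos hx, DistribSMul.toAddMonoidHom_apply]
      rw [hr (Finset.mem_image.1 hx).choose_spec.2]
    have hemp := c.coeff_eq_empty h hirr (T.image r) ?_ ?_ f ?_ ?_ ?_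
    · have hq : r q0 ∈ T.image r :=
        Finset.mem_image_of_mem r (Finset.mem_filter.2 ⟨Finset.mem_univ _, hq0⟩)
      rw [hemp] at hq
      exact Finset.notMem_empty _ hq
    · intro x hx
      obtain ⟨q, -, rfl⟩ := Finset.mem_image.1 hx
      exact (q.out).2
    · intro x hx y hy hxy
      obtain ⟨q, -, rfl⟩ := Finset.mem_image.1 hx
      obtain ⟨q', -, rfl⟩ := Finset.mem_image.1 hy
      rw [hrep q q' hxy]
    · intro x hx
      obtain ⟨q, hq, rfl⟩ := Finset.mem_image.1 hx
      intro v w hvw
      rw [hf q hq, hf q hq] at hvw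
      exact smul_right_injective V (Finset.mem_filter.1 hq).2 hvw
    · intro x hx g _ v
      obtain ⟨q, hq, rfl⟩ := Finset.mem_image.1 hx
      rw [hf q hq, hf q hq]
      exact ((DistribSMul.toAddMonoidHom V g).toZModLinearMap p).map_smul (a q) v |>.symm
    · intro v
      rw [Finset.sum_image (hr.injOn), Finset.sum_congr rfl fun q hq => hf q hq _]
      have h1 := LinearMap.congr_fun ha v
      rw [LinearMap.sum_apply, LinearMap.zero_apply] at h1
      rw [show T = Finset.univ.filter (fun q => a q ≠ 0) from rfl,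
        Finset.sum_filter_of_ne fun q _ hne => left_ne_zero_of_smul hne]
      exact h1
  have h1 := hli.fintype_card_le_finrank
  rw [Module.finrank_linearMap, ← Nat.card_eq_fintype_card] at h1
  rw [sq]
  exact h1

end Dim

end CfsgLib.DerangeExact
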